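import Cfsg.Agent.FGS74.ThreeOrders.Basic
import Cfsg.Agent.CNStructure.AlmostOdd
import Cfsg.Agent.AutPSL.FieldAut
import Cfsg.Agent.CITGroups.Basic
import Mathlib.NumberTheory.LegendreSymbol.QuadraticChar.GaussSum

/-!
# Reading the elements outside a socle `PSL₂`

Elements realising a prescribed semilinear automorphism, and small matrices fixed by field
automorphisms.
-/

set_option autoImplicit false
set_option linter.style.haveILetI false

namespace CfsgLib.FGS74.ThreeOrders

open Matrix CfsgLib.AutPSL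
open CfsgLib.CNStructure (actHom actHom_symm actHom_injective commute_of_actHom)
open scoped MatrixGroups

universe u

variable {Q : Type u} [Group Q] {M : Subgroup Q} [M.Normal] {F : Type*} [Field F] [Fintype F]

local notation "P₂" => Matrix.ProjectiveSpecialLinearGroup (Fin 2) F

/-- Changing the linear part of an automorphism by an inner one stays inside the group. -/
theorem exists_shift (e : M ≃* P₂) {g : Q} {h w : GL (Fin 2) F} {σ : F ≃+* F}
    (hg : actHom e g = toPSLAut (conjSL h * fieldSL σ))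
    (hsq : IsSquare ((h * w⁻¹ : GL (Fin 2) F) : Matrix (Fin 2) (Fin 2) F).det) :
    ∃ m ∈ M, actHom e (m⁻¹ * g) = toPSLAut (conjSL w * fieldSL σ) := by
  obtain ⟨a, ha⟩ := CNStructure.exists_inner_of_sq hsq
  refine ⟨(e.symm a : M), (e.symm a).2, ?_⟩
  rw [map_mul, map_inv, actHom_symm, hg, ← ha, ← map_inv, ← map_mul]
  congr 1
  rw [← map_inv conjSL, ← mul_assoc, ← map_mul conjSL, _root_.mul_inv_rev, inv_inv, inv_mul_cancel_right]

/-- An element outside the socle can be taken to act as a nontrivial field automorphism, or with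
linear part `w` for a given `w` of non-square determinant. -/
theorem exists_outer (hC : Subgroup.centralizer (M : Set Q) = ⊥) (e : M ≃* P₂) {g : Q} (hg : g ∉ M) :
    ∃ σ : F ≃+* F, (σ ≠ 1 ∧ ∃ y : Q, actHom e y = toPSLAut (fieldSL σ)) ∨
      ∀ w : GL (Fin 2) F, ¬ IsSquare (w : Matrix (Fin 2) (Fin 2) F).det →
        ∃ y : Q, actHom e y = toPSLAut (conjSL w * fieldSL σ) := by
  obtain ⟨h, σ, hh⟩ := CNStructure.exists_semilinear (actHom e g)
  refine ⟨σ, ?_⟩
  by_cases hsq : IsSquare (h : Matrix (Fin 2) (Fin 2) F).det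
  · obtain ⟨m, hm, hy⟩ := exists_shift e hh (w := 1) (by rwa [inv_one, mul_one])
    rw [map_one, one_mul] at hy
    refine Or.inl ⟨fun hσ => hg ?_, _, hy⟩
    rw [hσ, map_one, map_one, ← map_one (actHom e)] at hy
    rw [← inv_mul_eq_one.1 (actHom_injective hC e hy)]
    exact hm
  · refine Or.inr fun w hw => ?_
    obtain ⟨m, -, hy⟩ := exists_shift e hh (w := w) (by
      rw [Units.val_mul, det_mul]
      refine CNStructure.isSquare_mul_of_not hsq fun ⟨c, hc⟩ => hw ⟨c⁻¹, ?_⟩
      have h1 : (w : Matrix (Fin 2) (Fin 2) F).det * ((w⁻¹ : GL (Fin 2) F) : Matrix (Fin 2) (Fin 2) F).det = 1 := by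
        rw [← det_mul, Units.mul_inv, det_one]
      rw [hc] at h1
      rw [← mul_inv, eq_inv_of_mul_eq_one_left h1])
    exact ⟨_, hy⟩

/-- An element and its action have the same order. -/
theorem orderOf_act (hC : Subgroup.centralizer (M : Set Q) = ⊥) (e : M ≃* P₂) (y : Q) :
    orderOf (actHom e y) = orderOf y :=
  orderOf_injective (actHom e) (actHom_injective hC e) y

/-- An element acting as a nontrivial field automorphism has a power doing so with prime order. -/
theorem exists_field_prime (hC : Subgroup.centralizer (M : Set Q) = ⊥) (e : M ≃* P₂) {σ : F ≃+* F}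
    (hσ : σ ≠ 1) {y : Q} (hy : actHom e y = toPSLAut (fieldSL σ)) :
    ∃ (τ : F ≃+* F) (z : Q) (r : ℕ), r.Prime ∧ r ∣ orderOf σ ∧ orderOf τ = r ∧ orderOf z = r ∧
      actHom e z = toPSLAut (fieldSL τ) := by
  obtain ⟨r, hr, hrd⟩ := Nat.exists_prime_and_dvd (mt orderOf_eq_one_iff.1 hσ)
  have h0 : orderOf σ ≠ 0 := fun h => by
    obtain ⟨f, hp, hf⟩ := FiniteField.card F (ringChar F)
    haveI := Fact.mk hp
    have := Nat.eq_zero_of_zero_dvd (h ▸ orderOf_dvd_degree hf f.pos σ)
    exact f.pos.ne' this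
  refine ⟨σ ^ (orderOf σ / r), y ^ (orderOf σ / r), r, hr, hrd, orderOf_pow_orderOf_div h0 hrd, ?_,
    by rw [map_pow, hy, map_pow fieldSL, map_pow toPSLAut]⟩
  rw [← orderOf_act hC e, map_pow, hy, ← map_pow toPSLAut, ← map_pow fieldSL,
    orderOf_toPSLAut_fieldSL, orderOf_pow_orderOf_div h0 hrd]

omit [Fintype F] in
/-- A matrix with a nonzero off-diagonal entry is nontrivial in `PSL₂`. -/
theorem mk_ne_one_of_entry {s : SL(2, F)}
    (hs : (s : Matrix (Fin 2) (Fin 2) F) 0 1 ≠ 0 ∨ (s : Matrix (Fin 2) (Fin 2) F) 1 0 ≠ 0) :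
    (QuotientGroup.mk s : P₂) ≠ 1 := by
  intro h
  rw [QuotientGroup.eq_one_iff, Matrix.SpecialLinearGroup.mem_center_iff] at h
  obtain ⟨r, -, hr⟩ := h
  rcases hs with hs | hs <;> exact hs (by rw [← hr]; simp)

omit [Fintype F] in
/-- An element fixed by an automorphism lifts to one commuting with the realising element. -/
theorem exists_commute (e : M ≃* P₂) {z : Q} {τ : F ≃+* F} (hz : actHom e z = toPSLAut (fieldSL τ))
    {s : SL(2, F)} (hfix : fieldSL τ s = s) :
    ∃ m ∈ M, Commute z m ∧ orderOf m = orderOf (QuotientGroup.mk s : P₂) :=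
  ⟨(e.symm (QuotientGroup.mk s) : M), (e.symm _).2,
    commute_of_actHom e (by rw [hz, toPSLAut_mk, hfix]), by rw [Subgroup.orderOf_coe, e.symm.orderOf_eq]⟩

omit [Fintype F] in
/-- Matrices over the prime field of orders two and three. -/
theorem exists_fixed_pair (τ : F ≃+* F) :
    (∃ s : SL(2, F), fieldSL τ s = s ∧ orderOf (QuotientGroup.mk s : P₂) = 2) ∧
      ∃ s : SL(2, F), fieldSL τ s = s ∧ orderOf (QuotientGroup.mk s : P₂) = 3 := by
  haveI := Fact.mk Nat.prime_two
  haveI := Fact.mk Nat.prime_three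
  let j : SL(2, F) := ⟨!![0, -1; 1, 0], by simp [det_fin_two_of]⟩
  let d : SL(2, F) := ⟨!![0, -1; 1, -1], by simp [det_fin_two_of]⟩
  refine ⟨⟨j, ?_, orderOf_eq_prime ?_ (mk_ne_one_of_entry (Or.inr (by simp [j])))⟩,
    d, ?_, orderOf_eq_prime ?_ (mk_ne_one_of_entry (Or.inr (by simp [d])))⟩
  · apply Subtype.ext
    rw [fieldSL_coe]; ext a b; fin_cases a <;> fin_cases b <;> simp [j]
  · rw [← QuotientGroup.mk_pow, QuotientGroup.eq_one_iff, Matrix.SpecialLinearGroup.mem_center_iff]
    refine ⟨-1, by simp, ?_⟩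
    rw [pow_two]
    show scalar (Fin 2) (-1 : F) = (!![0, -1; 1, 0] : Matrix (Fin 2) (Fin 2) F) * !![0, -1; 1, 0]
    ext a b; fin_cases a <;> fin_cases b <;> simp
  · apply Subtype.ext
    rw [fieldSL_coe]; ext a b; fin_cases a <;> fin_cases b <;> simp [d]
  · rw [← QuotientGroup.mk_pow, show d ^ 3 = 1 from ?_, QuotientGroup.mk_one]
    apply Subtype.ext
    rw [pow_succ, pow_two]
    show (!![0, -1; 1, -1] : Matrix (Fin 2) (Fin 2) F) * !![0, -1; 1, -1] * !![0, -1; 1, -1] = 1
    ext a b; fin_cases a <;> fin_cases b <;> simp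

/-- Upper unitriangular matrices. -/
def uT (a : F) : GL (Fin 2) F where
  val := !![1, a; 0, 1]
  inv := !![1, -a; 0, 1]
  val_inv := by ext i j; fin_cases i <;> fin_cases j <;> simp
  inv_val := by ext i j; fin_cases i <;> fin_cases j <;> simp

omit [Fintype F] in
theorem uT_mul (a b : F) : uT a * uT b = uT (a + b) := by
  apply Units.ext
  show (!![1, a; 0, 1] : Matrix (Fin 2) (Fin 2) F) * !![1, b; 0, 1] = !![1, a + b; 0, 1]
  ext i j; fin_cases i <;> fin_cases j <;> simp [add_comm]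

omit [Fintype F] in
theorem uT_map (τ : F ≃+* F) (a : F) : mapGL τ (uT a) = uT (τ a) := by
  apply Units.ext
  show (!![1, a; 0, 1] : Matrix (Fin 2) (Fin 2) F).map τ = !![1, τ a; 0, 1]
  ext i j; fin_cases i <;> fin_cases j <;> simp

omit [Fintype F] in
theorem twNorm_uT (τ : F ≃+* F) (a : F) (k : ℕ) :
    twNorm τ (uT a) k = uT (∑ i ∈ Finset.range k, (τ ^ i) a) := by
  induction k with
  | zero =>
    rw [twNorm_zero, Finset.range_zero, Finset.sum_empty]
    apply Units.ext
    show (1 : Matrix (Fin 2) (Fin 2) F) = !![1, 0; 0, 1]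
    exact one_fin_two
  | succ k ih => rw [twNorm_succ', ih, uT_map, uT_mul, Finset.sum_range_succ]

omit [Fintype F] in
theorem uT_eq_scalar {a : F} {c : Fˣ}
    (h : uT a = Matrix.GeneralLinearGroup.scalar (Fin 2) c) : a = 0 := by
  have := congrArg (fun g : GL (Fin 2) F => (g : Matrix (Fin 2) (Fin 2) F) 0 1) h
  simpa [uT] using this

omit [Fintype F] in
/-- An element acting as a field automorphism times a unitriangular matrix. -/
theorem exists_act_uT (e : M ≃* P₂) {z : Q} {τ : F ≃+* F} (hz : actHom e z = toPSLAut (fieldSL τ))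
    (a : F) : ∃ y : Q, actHom e y = toPSLAut (conjSL (uT a) * fieldSL τ) := by
  let s : SL(2, F) := ⟨!![1, a; 0, 1], by simp [det_fin_two_of]⟩
  refine ⟨(e.symm (QuotientGroup.mk s) : M) * z, ?_⟩
  rw [map_mul, actHom_symm, hz, ← toPSLAut_conj, ← conjSL_toGL, ← map_mul]
  congr 3
  exact Units.ext rfl

omit [Fintype F] in
theorem twNorm_one_field (w : GL (Fin 2) F) (k : ℕ) : twNorm (1 : F ≃+* F) w k = w ^ k := by
  induction k with
  | zero => simp
  | succ k ih => rw [twNorm_succ, ih, mapGL_one_apply, pow_succ']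

/-- A realising element of prescribed two-power order. -/
theorem orderOf_semilinear (hC : Subgroup.centralizer (M : Set Q) = ⊥) (e : M ≃* P₂) {y : Q}
    {w : GL (Fin 2) F} {σ : F ≃+* F} (hy : actHom e y = toPSLAut (conjSL w * fieldSL σ))
    {l k : ℕ} [Fact l.Prime] (hk : ∀ c : Fˣ, twNorm σ w (l ^ k) ≠ Matrix.GeneralLinearGroup.scalar (Fin 2) c)
    (hσ : σ ^ l ^ (k + 1) = 1) {c : Fˣ}
    (hfin : twNorm σ w (l ^ (k + 1)) = Matrix.GeneralLinearGroup.scalar (Fin 2) c) :
    orderOf y = l ^ (k + 1) := by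
  obtain ⟨p, hp⟩ := CharP.exists F
  haveI := Fact.mk (CharP.char_is_prime F p)
  rw [← orderOf_act hC e, hy]
  refine orderOf_eq_prime_pow (fun h => ?_) ((mul_field_pow_eq_one_iff p σ w _).2 ⟨hσ, c, hfin⟩)
  obtain ⟨-, c', hc'⟩ := (mul_field_pow_eq_one_iff p σ w _).1 h
  exact hk c' hc'

end CfsgLib.FGS74.ThreeOrders
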