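import Mathlib.GroupTheory.OrderOfElement
import Mathlib.GroupTheory.Perm.Cycle.Type
import Mathlib.GroupTheory.QuotientGroup.Basic
import Mathlib.Data.Nat.Factors

/-!
# Groups in which no prime divides three element orders

The hypothesis, its inheritance, and the possible element orders divisible by a given prime.
-/

set_option autoImplicit false

namespace CfsgLib.FGS74.ThreeOrders

universe u v

/-- No prime divides three pairwise distinct element orders. -/
def TwoOrders (G : Type u) [Group G] : Prop :=
  ∀ p : ℕ, p.Prime → ∀ a b c : G, orderOf a ≠ orderOf b → orderOf b ≠ orderOf c →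
    orderOf a ≠ orderOf c → ¬ (p ∣ orderOf a ∧ p ∣ orderOf b ∧ p ∣ orderOf c)

namespace TwoOrders

variable {G : Type u} [Group G]

theorem false_of_three (h : TwoOrders G) {p : ℕ} (hp : p.Prime) {l m n : ℕ} {a b c : G}
    (ha : orderOf a = l) (hb : orderOf b = m) (hc : orderOf c = n)
    (hlm : l ≠ m) (hmn : m ≠ n) (hln : l ≠ n) (hl : p ∣ l) (hm : p ∣ m) (hn : p ∣ n) : False := by
  subst ha hb hc
  exact h p hp a b c hlm hmn hln ⟨hl, hm, hn⟩

theorem of_injective (h : TwoOrders G) {H : Type v} [Group H] (f : H →* G)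
    (hf : Function.Injective f) : TwoOrders H := by
  intro p hp a b c hab hbc hac
  rw [← orderOf_injective f hf a, ← orderOf_injective f hf b, ← orderOf_injective f hf c] at *
  exact h p hp (f a) (f b) (f c) hab hbc hac

theorem subgroup (h : TwoOrders G) (H : Subgroup G) : TwoOrders H :=
  h.of_injective H.subtype H.subtype_injective

theorem of_mulEquiv (h : TwoOrders G) {H : Type v} [Group H] (e : G ≃* H) : TwoOrders H :=
  h.of_injective e.symm.toMonoidHom e.symm.injective

variable [Finite G]

/-- An order of an element of an image is an order of an element. -/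
theorem exists_orderOf_eq {H : Type v} [Group H] (f : G →* H) (g : G) :
    ∃ g' : G, orderOf g' = orderOf (f g) :=
  ⟨g ^ (orderOf g / orderOf (f g)), orderOf_pow_orderOf_div (orderOf_pos g).ne' (orderOf_map_dvd f g)⟩

theorem of_surjective (h : TwoOrders G) {H : Type v} [Group H] (f : G →* H)
    (hf : Function.Surjective f) : TwoOrders H := by
  intro p hp a b c hab hbc hac
  obtain ⟨a, rfl⟩ := hf a
  obtain ⟨b, rfl⟩ := hf b
  obtain ⟨c, rfl⟩ := hf c
  obtain ⟨a', ha⟩ := exists_orderOf_eq f a
  obtain ⟨b', hb⟩ := exists_orderOf_eq f b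
  obtain ⟨c', hc⟩ := exists_orderOf_eq f c
  rw [← ha, ← hb] at hab
  rw [← hb, ← hc] at hbc
  rw [← ha, ← hc] at hac
  rw [← ha, ← hb, ← hc]
  exact h p hp a' b' c' hab hbc hac

theorem quotient (h : TwoOrders G) (N : Subgroup G) [N.Normal] : TwoOrders (G ⧸ N) :=
  h.of_surjective (QuotientGroup.mk' N) (QuotientGroup.mk'_surjective N)

omit [Finite G] in
theorem exists_orderOf_of_dvd {g : G} {d : ℕ} (hg : orderOf g ≠ 0) (hd : d ∣ orderOf g) :
    ∃ g' : G, orderOf g' = d :=
  ⟨g ^ (orderOf g / d), orderOf_pow_orderOf_div hg hd⟩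

/-- Every element order has at most two prime factors, counted with multiplicity. -/
theorem length_primeFactorsList_le (h : TwoOrders G) (g : G) :
    (orderOf g).primeFactorsList.length ≤ 2 := by
  by_contra hlen
  obtain ⟨p, a, b, l, hl⟩ : ∃ p a b l, (orderOf g).primeFactorsList = p :: a :: b :: l := by
    rcases he : (orderOf g).primeFactorsList with _ | ⟨p, _ | ⟨a, _ | ⟨b, l⟩⟩⟩ <;>
      simp only [he, List.length_nil, List.length_cons] at hlen
    · omega
    · omega
    · omega
    · exact ⟨p, a, b, l, rfl⟩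
  have hmem : ∀ x ∈ [p, a, b], x.Prime := fun x hx => Nat.prime_of_mem_primeFactorsList (n := orderOf g)
    (by rw [hl]; simp only [List.mem_cons, List.not_mem_nil, or_false] at hx ⊢; tauto)
  have hp := hmem p (by simp)
  have ha := (hmem a (by simp)).two_le
  have hb := (hmem b (by simp)).two_le
  have hd : p * (a * b) ∣ orderOf g := by
    have := Nat.prod_primeFactorsList (orderOf_pos g).ne'
    rw [hl] at this
    simp only [List.prod_cons] at this
    exact ⟨l.prod, by rw [← this]; ring⟩
  obtain ⟨x, hx⟩ := exists_orderOf_of_dvd (orderOf_pos g).ne' ((dvd_mul_right p _).trans hd)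
  obtain ⟨y, hy⟩ := exists_orderOf_of_dvd (orderOf_pos g).ne'
    ((mul_dvd_mul_left p (dvd_mul_right a b)).trans hd)
  obtain ⟨z, hz⟩ := exists_orderOf_of_dvd (orderOf_pos g).ne' hd
  have h1 : p < p * a := lt_mul_of_one_lt_right hp.pos ha
  have h2 : p * a < p * (a * b) :=
    Nat.mul_lt_mul_of_pos_left (lt_mul_of_one_lt_right (by omega) hb) hp.pos
  exact h.false_of_three hp hx hy hz (by omega) (by omega) (by omega) dvd_rfl (dvd_mul_right _ _)
    (dvd_mul_right _ _)

/-- The order of an element of order divisible by `p` is `p` or `p` times a prime. -/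
theorem eq_prime_or_mul (h : TwoOrders G) {p : ℕ} (hp : p.Prime) {g : G} (hg : p ∣ orderOf g) :
    orderOf g = p ∨ ∃ q : ℕ, q.Prime ∧ orderOf g = p * q := by
  obtain ⟨m, hm⟩ := hg
  rcases eq_or_ne m 1 with rfl | hm1
  · exact Or.inl (by rw [hm, mul_one])
  refine Or.inr ⟨m, ?_, hm⟩
  have hm0 : m ≠ 0 := by rintro rfl; rw [mul_zero] at hm; exact (orderOf_pos g).ne' hm
  have hlen := h.length_primeFactorsList_le g
  rw [hm, (Nat.perm_primeFactorsList_mul hp.ne_zero hm0).length_eq, List.length_append,
    Nat.primeFactorsList_prime hp, List.length_singleton] at hlen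
  rcases he : m.primeFactorsList with _ | ⟨q, l⟩
  · rw [Nat.primeFactorsList_eq_nil] at he; omega
  · rw [he, List.length_cons] at hlen
    have := Nat.prod_primeFactorsList hm0
    rw [he, List.length_eq_zero_iff.1 (by omega : l.length = 0), List.prod_singleton] at this
    exact this ▸ Nat.prime_of_mem_primeFactorsList (n := m) (by rw [he]; simp)

/-- Besides `p` there is at most one element order divisible by `p`. -/
theorem mul_prime_unique (h : TwoOrders G) {p q q' : ℕ} (hp : p.Prime) (hq : q.Prime) (hq' : q'.Prime)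
    {g g' : G} (hg : orderOf g = p * q) (hg' : orderOf g' = p * q') : q = q' := by
  by_contra hne
  obtain ⟨x, hx⟩ := exists_orderOf_of_dvd (orderOf_pos g).ne' (Dvd.intro q hg.symm : p ∣ orderOf g)
  exact h.false_of_three hp hx hg hg'
    (lt_mul_of_one_lt_right hp.pos hq.one_lt).ne
    (fun e => hne (Nat.eq_of_mul_eq_mul_left hp.pos e))
    (lt_mul_of_one_lt_right hp.pos hq'.one_lt).ne dvd_rfl (dvd_mul_right _ _) (dvd_mul_right _ _)

omit [Finite G] in
/-- Commuting elements of distinct prime orders. -/
theorem exists_orderOf_mul {a b : G} {p q : ℕ} (hp : p.Prime) (hq : q.Prime) (hpq : p ≠ q)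
    (hc : Commute a b) (ha : orderOf a = p) (hb : orderOf b = q) : orderOf (a * b) = p * q := by
  rw [hc.orderOf_mul_eq_mul_orderOf_of_coprime (by rw [ha, hb]; exact (Nat.coprime_primes hp hq).2 hpq),
    ha, hb]

/-- An element of prime order commutes with elements of at most one other prime order. -/
theorem commute_prime_unique (h : TwoOrders G) {p q q' : ℕ} (hp : p.Prime) (hq : q.Prime)
    (hq' : q'.Prime) (hpq : p ≠ q) (hpq' : p ≠ q') {a a' b b' : G} (hc : Commute a b)
    (hc' : Commute a' b') (ha : orderOf a = p) (ha' : orderOf a' = p) (hb : orderOf b = q)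
    (hb' : orderOf b' = q') : q = q' :=
  h.mul_prime_unique hp hq hq' (exists_orderOf_mul hp hq hpq hc ha hb)
    (exists_orderOf_mul hp hq' hpq' hc' ha' hb')

/-- No element order is `p * q` with `q ≠ p` when some element order is `p ^ 2`. -/
theorem not_commute_of_sq (h : TwoOrders G) {p q : ℕ} (hp : p.Prime) (hq : q.Prime) (hpq : p ≠ q)
    {g a b : G} (hg : orderOf g = p * p) (hc : Commute a b) (ha : orderOf a = p) (hb : orderOf b = q) :
    False :=
  hpq (h.mul_prime_unique hp hp hq hg (exists_orderOf_mul hp hq hpq hc ha hb))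

end TwoOrders

end CfsgLib.FGS74.ThreeOrders
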