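import Cfsg.Agent.FGS74.ThreeOrders.Act
import Cfsg.Agent.CITAlmost.Socle
import Mathlib.SetTheory.Cardinal.Finite

/-!
# Socles with two-group involution centralisers

`PSL₂(7)`, `PSL₂(9)` and `PSL₃(4)` have no proper almost simple CIT overgroup in which every element
order has at most two prime factors.
-/

set_option autoImplicit false
set_option linter.style.haveILetI false

namespace CfsgLib.FGS74.ThreeOrders

open Matrix CfsgLib.AutPSL
open CfsgLib.CITGroups (IsCIT)
open CfsgLib.CNStructure (actHom actHom_symm actHom_injective commute_of_actHom FixesPair)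
open scoped MatrixGroups

universe u

variable {Q : Type u} [Group Q] [Finite Q] {M : Subgroup Q} [M.Normal]

/-- An element of even order fixes no two noncommuting elements of coprime orders. -/
theorem false_of_fixesPair {K : Type*} [Group K] (h : IsCIT Q) (e : M ≃* K) {y : Q} {ψ : MulAut K}
    (hy : actHom e y = ψ) (hev : Even (orderOf y)) (hψ : FixesPair ψ) : False := by
  obtain ⟨u, v, hu, hv, hco, hnc⟩ := hψ
  have hz := orderOf_pow_orderOf_div (orderOf_pos y).ne' (even_iff_two_dvd.1 hev)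
  have key : ∀ x : K, ψ x = x → Odd (orderOf x) → x = 1 := fun x hx ho => by
    have hc : Commute y ((e.symm x : M) : Q) := commute_of_actHom e (by rw [hy, hx])
    have h1 := CITGroups.eq_one_of_odd_mem (h _ hz)
      (Subgroup.mem_centralizer_singleton_iff.2 ((hc.pow_left _).symm).eq)
      (by rwa [Subgroup.orderOf_coe, e.symm.orderOf_eq])
    exact e.symm.injective (Subtype.ext (by rw [h1, map_one]; rfl))
  rcases Nat.even_or_odd (orderOf u) with hue | huo
  · have hvo : Odd (orderOf v) := Nat.not_even_iff_odd.1 fun hve =>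
      Nat.not_coprime_of_dvd_of_dvd one_lt_two (even_iff_two_dvd.1 hue) (even_iff_two_dvd.1 hve) hco
    exact hnc (key v hv hvo ▸ Commute.one_right u)
  · exact hnc (key u hu huo ▸ Commute.one_left v)

/-- A realising element outside the socle, of square inside, has even order. -/
theorem even_of_sq_mem {y : Q} (hy : y ∉ M) {k : ℕ} (h2 : y ^ 2 ^ k ∈ M) : Even (orderOf y) := by
  by_contra ho
  rw [Nat.not_even_iff_odd] at ho
  obtain ⟨j, hj⟩ := exists_pow_eq_self_of_coprime (x := y) (n := 2 ^ k)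
    ((Nat.coprime_two_left.2 ho).pow_left k)
  exact hy (hj ▸ pow_mem h2 j)

section Line

variable {F : Type*} [Field F] [Fintype F]

local notation "P₂" => Matrix.ProjectiveSpecialLinearGroup (Fin 2) F

/-- Over a field with at most two automorphisms squares lie in the socle. -/
theorem sq_mem (hC : Subgroup.centralizer (M : Set Q) = ⊥) (e : M ≃* P₂)
    (hσ : ∀ σ : F ≃+* F, σ ^ 2 = 1)
    (hsq : ∀ (σ : F ≃+* F) (c : F), c ≠ 0 → IsSquare (c * σ c)) (g : Q) : g ^ 2 ∈ M := by
  obtain ⟨h, σ, hh⟩ := CNStructure.exists_semilinear (actHom e g)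
  have hg2 : actHom e (g ^ 2) = toPSLAut (conjSL (twNorm σ h 2) * fieldSL 1) := by
    rw [map_pow, hh, ← map_pow, conjSL_fieldSL_pow, hσ]
  obtain ⟨m, hm, hy⟩ := exists_shift e hg2 (w := 1) (by
    rw [inv_one, mul_one, twNorm_succ, twNorm_one, Units.val_mul, det_mul,
      show ((mapGL σ h : GL (Fin 2) F) : Matrix (Fin 2) (Fin 2) F).det =
        σ (h : Matrix (Fin 2) (Fin 2) F).det from (RingHom.map_det σ.toRingHom _).symm]
    exact hsq σ _ (Matrix.det_ne_zero_of_left_inverse h.inv_val))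
  simp only [map_one, mul_one] at hy
  rw [← map_one (actHom e)] at hy
  rw [← inv_mul_eq_one.1 (actHom_injective hC e hy)]
  exact hm

/-- `PSL₂(7)` is the whole group. -/
theorem psl_seven_eq_top (h : IsCIT Q) (hC : Subgroup.centralizer (M : Set Q) = ⊥) (e : M ≃* P₂)
    (hF : Fintype.card F = 7) : M = ⊤ := by
  haveI : Fact (Nat.Prime 7) := ⟨by norm_num⟩
  haveI : CharP F 7 := charP_of_card_eq_prime_pow (show Fintype.card F = 7 ^ 1 by rw [hF, pow_one])
  have hσ : ∀ σ : F ≃+* F, σ = 1 := fun σ => by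
    have := orderOf_dvd_degree (f := 1) (show Fintype.card F = 7 ^ 1 by rw [hF, pow_one]) le_rfl σ
    rwa [Nat.dvd_one, orderOf_eq_one_iff] at this
  refine (Subgroup.eq_top_iff' M).2 fun g => by_contra fun hg => ?_
  obtain ⟨a, ψ, ha, hψ⟩ := CNStructure.exists_form_psl_two_prime (p := 7) hF le_rfl (Or.inr rfl)
    (actHom e g)
  have hy : actHom e (((e.symm a : M) : Q)⁻¹ * g) = ψ := by
    rw [map_mul, map_inv, actHom_symm, ha, inv_mul_cancel_left]
  refine false_of_fixesPair h e hy (even_of_sq_mem (M := M) ?_ (k := 1) ?_) hψ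
  · exact fun hm => hg (by simpa using M.mul_mem (e.symm a).2 hm)
  · exact sq_mem hC e (fun σ => by rw [hσ σ, one_pow])
      (fun σ c _ => by rw [hσ σ]; exact ⟨c, rfl⟩) _

/-- `PSL₂(9)` is the whole group. -/
theorem psl_nine_eq_top (h : IsCIT Q) (h8 : ∀ g : Q, orderOf g ≠ 8)
    (hC : Subgroup.centralizer (M : Set Q) = ⊥) (e : M ≃* P₂) (hF : Fintype.card F = 9) : M = ⊤ := by
  haveI := Fact.mk Nat.prime_three
  haveI := Fact.mk Nat.prime_two
  haveI : CharP F 3 := charP_of_card_eq_prime_pow (show Fintype.card F = 3 ^ 2 by rw [hF]; norm_num)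
  have hcard : Nat.card (F ≃+* F) = 2 :=
    card_ringEquiv (p := 3) (show Fintype.card F = 3 ^ 2 by rw [hF]; norm_num) (by norm_num)
  let φ : F ≃+* F := frobeniusEquiv F 3
  have hφ : ∀ x, φ x = x ^ 3 := fun x => rfl
  have h3 : (3 : F) = 0 := by exact_mod_cast CharP.cast_eq_zero F 3
  have h20 : (2 : F) ≠ 0 := fun e0 => one_ne_zero (by linear_combination h3 - e0 : (1 : F) = 0)
  obtain ⟨i, hi⟩ := (FiniteField.isSquare_neg_one_iff (F := F)).2 (by omega)
  have hpow8 : ∀ x : F, x ≠ 0 → x ^ 8 = 1 := fun x hx => by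
    have := FiniteField.pow_card_sub_one_eq_one x hx
    rwa [hF] at this
  have hφi : φ i = -i := by rw [hφ]; linear_combination -i * hi
  have hφ1 : φ ≠ 1 := fun e1 => by
    have : i = -i := by conv_lhs => rw [show i = (1 : F ≃+* F) i from rfl, ← e1, hφi]
    have hi0 : i = 0 := (mul_eq_zero.1 (show 2 * i = 0 by linear_combination this)).resolve_left h20
    simp [hi0] at hi
  have hall : ∀ σ : F ≃+* F, σ = 1 ∨ σ = φ := fun σ => by
    obtain ⟨y, -, hy⟩ := (Nat.card_eq_two_iff' (1 : F ≃+* F)).1 hcard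
    by_cases h1 : σ = 1
    · exact Or.inl h1
    · exact Or.inr ((hy σ h1).trans (hy φ hφ1).symm)
  have hns : ∀ c : F, c = 1 + i ∨ c = -(1 + i) → ¬ IsSquare c := by
    rintro c hc ⟨d, hd⟩
    have h4 : c ^ 4 = -1 := by
      rcases hc with rfl | rfl <;>
        linear_combination (-(i ^ 2 + 4 * i + 5)) * hi - (1 : F) * h3
    have hd0 : d ≠ 0 := by rintro rfl; simp [hd] at h4
    have := hpow8 d hd0
    refine h20 ?_
    have hc4 : c ^ 4 = 1 := by rw [hd, ← sq, ← pow_mul]; exact this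
    linear_combination h4 - hc4
  have hi1 : (1 + i : F) ≠ 0 := fun e0 => hns _ (Or.inl rfl) (e0 ▸ IsSquare.zero)
  refine (Subgroup.eq_top_iff' M).2 fun g => by_contra fun hg => ?_
  have hφ2 : φ ^ 2 = 1 := hcard ▸ pow_card_eq_one'
  obtain ⟨σ, ⟨hσ, y, hy⟩ | hw⟩ := exists_outer hC e hg
  · have hyM : y ∉ M := fun hm => hσ (by
      have h1 : actHom e y = MulAut.conj (e ⟨y, hm⟩) := by
        rw [← actHom_symm e (e ⟨y, hm⟩), MulEquiv.symm_apply_apply]
      rw [hy] at h1
      obtain ⟨s, hs⟩ := QuotientGroup.mk_surjective (e ⟨y, hm⟩)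
      rw [← hs, ← toPSLAut_conj, ← conjSL_toGL] at h1
      have h2 := toPSLAut_injective 3 h1
      exact (semilinear_unique (g := 1) (σ' := 1) (g' := Matrix.SpecialLinearGroup.toGL s)
        (by rw [map_one, one_mul, h2, map_one, mul_one])).1)
    refine false_of_fixesPair h e hy (even_of_sq_mem hyM (k := 1) ?_) (CNStructure.fixesPair_field σ)
    exact sq_mem hC e (fun τ => hcard ▸ pow_card_eq_one') (fun τ c hc => by
      rcases hall τ with rfl | rfl
      · exact ⟨c, rfl⟩
      · exact ⟨c ^ 2, by rw [hφ]; ring⟩) _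
  -- elements of order eight
  have hσ2 : ∀ k : ℕ, σ ^ (2 * k) = 1 := fun k => by
    rw [pow_mul, show σ ^ 2 = 1 from hcard ▸ pow_card_eq_one', one_pow]
  rcases hall σ with rfl | rfl
  · let w : GL (Fin 2) F := GeneralLinearGroup.mkOfDetNeZero !![1 + i, 0; 0, 1]
      (by rw [det_fin_two_of]; simpa using hi1)
    obtain ⟨y, hy⟩ := hw w (by
      show ¬ IsSquare (!![1 + i, 0; 0, 1] : Matrix (Fin 2) (Fin 2) F).det
      exact hns _ (Or.inl (by rw [det_fin_two_of]; ring)))
    have hpow : ∀ k : ℕ, ((w ^ k : GL (Fin 2) F) : Matrix (Fin 2) (Fin 2) F) = !![(1 + i) ^ k, 0; 0, 1] := by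
      intro k
      induction k with
      | zero => rw [pow_zero, pow_zero, Units.val_one]; exact one_fin_two
      | succ k ih =>
        rw [pow_succ, Units.val_mul, ih]
        show _ * (!![1 + i, 0; 0, 1] : Matrix (Fin 2) (Fin 2) F) = _
        ext a b; fin_cases a <;> fin_cases b <;> simp [pow_succ]
    refine h8 y (orderOf_semilinear hC e hy (l := 2) (k := 2) (fun c hc => ?_) (one_pow _) (c := 1) ?_)
    · rw [twNorm_one_field] at hc
      have hm := congrArg Units.val hc
      rw [hpow] at hm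
      have e00 := congrFun (congrFun hm 0) 0
      have e11 := congrFun (congrFun hm 1) 1
      simp [GeneralLinearGroup.scalar] at e00 e11
      exact h20 (by linear_combination (-(i ^ 2 + 4 * i + 5)) * hi - (1 : F) * h3 - (e00 - e11))
    · rw [twNorm_one_field, map_one]
      apply Units.ext
      rw [hpow, show 2 ^ (2 + 1) = 8 by norm_num, hpow8 _ hi1, Units.val_one]
      exact one_fin_two.symm
  · let w : GL (Fin 2) F := GeneralLinearGroup.mkOfDetNeZero !![0, 1; 1 + i, 0]
      (by rw [det_fin_two_of]; intro e0; exact hi1 (by linear_combination -e0))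
    obtain ⟨y, hy⟩ := hw w (by
      show ¬ IsSquare (!![0, 1; 1 + i, 0] : Matrix (Fin 2) (Fin 2) F).det
      exact hns _ (Or.inr (by rw [det_fin_two_of]; ring)))
    have h2 : ((twNorm φ w 2 : GL (Fin 2) F) : Matrix (Fin 2) (Fin 2) F) = !![1 - i, 0; 0, 1 + i] := by
      rw [twNorm_succ, twNorm_one, Units.val_mul]
      show (!![0, 1; 1 + i, 0] : Matrix (Fin 2) (Fin 2) F) * (!![0, 1; 1 + i, 0]).map φ = _
      ext a b; fin_cases a <;> fin_cases b <;> simp [hφi, sub_eq_add_neg, Matrix.vecMul, dotProduct, Fin.sum_univ_two]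
    have h4 : ((twNorm φ w 4 : GL (Fin 2) F) : Matrix (Fin 2) (Fin 2) F) =
        !![(1 - i) ^ 2, 0; 0, (1 + i) ^ 2] := by
      rw [show (4 : ℕ) = 2 + 2 from rfl, twNorm_add, hφ2, mapGL_one_apply, Units.val_mul, h2]
      ext a b; fin_cases a <;> fin_cases b <;> simp [pow_two]
    refine h8 y (orderOf_semilinear hC e hy (l := 2) (k := 2) (fun c hc => ?_)
      (hσ2 4) (c := -1) ?_)
    · have hm := congrArg Units.val hc
      rw [show (2 : ℕ) ^ 2 = 4 by norm_num, h4] at hm
      have e00 := congrFun (congrFun hm 0) 0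
      have e11 := congrFun (congrFun hm 1) 1
      simp [GeneralLinearGroup.scalar] at e00 e11
      have : 2 * (2 * i) = 0 := by linear_combination e11 - e00
      have hi0 : i = 0 := (mul_eq_zero.1 ((mul_eq_zero.1 this).resolve_left h20)).resolve_left h20
      simp [hi0] at hi
    · apply Units.ext
      rw [show 2 ^ (2 + 1) = 4 + 4 by norm_num, twNorm_add,
        show φ ^ 4 = 1 by rw [show (4 : ℕ) = 2 * 2 from rfl, pow_mul, hφ2, one_pow], mapGL_one_apply,
        Units.val_mul, h4]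
      ext a b; fin_cases a <;> fin_cases b <;> simp [GeneralLinearGroup.scalar]
      · linear_combination (-(i ^ 2 - 4 * i + 5)) * hi - (1 : F) * h3
      · linear_combination (-(i ^ 2 + 4 * i + 5)) * hi - (1 : F) * h3

end Line

section Plane

variable {F : Type*} [Field F] [Fintype F]

local notation "P₃" => Matrix.ProjectiveSpecialLinearGroup (Fin 3) F

/-- Every automorphism of `PSL₃(4)` moves a fixed involution within its class. -/
theorem exists_fixed_invol (hF : Fintype.card F = 4) :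
    ∃ t : P₃, orderOf t = 2 ∧ ∀ φ : MulAut P₃, ∃ a : P₃, φ t = a * t * a⁻¹ := by
  haveI := Fact.mk Nat.prime_two
  haveI : CharP F 2 := charP_of_card_eq_prime_pow (show Fintype.card F = 2 ^ 2 by rw [hF]; rfl)
  let u : SL(3, F) := ⟨!![0, 1, 0; 1, 0, 0; 0, 0, 1], by simp [det_fin_three, CharTwo.neg_eq]⟩
  have hu2 : u * u = 1 := by
    apply Subtype.ext
    rw [Matrix.SpecialLinearGroup.coe_mul, Matrix.SpecialLinearGroup.coe_one]
    ext i j; fin_cases i <;> fin_cases j <;> simp [u, Matrix.mul_apply, Fin.sum_univ_three]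
  refine ⟨QuotientGroup.mk u, orderOf_eq_prime (by rw [← QuotientGroup.mk_pow, sq, hu2, QuotientGroup.mk_one])
    fun he => ?_, fun φ => ?_⟩
  · rw [QuotientGroup.eq_one_iff, Matrix.SpecialLinearGroup.mem_center_iff] at he
    obtain ⟨r, -, hr⟩ := he
    have := congrFun (congrFun hr 0) 1
    simp [u, scalar_apply] at this
  obtain ⟨g, σ, γ, hγ, rfl⟩ := AutPSL.exists_form (by norm_num) φ
  set c := (g : Matrix (Fin 3) (Fin 3) F).det with hc
  have hc0 : c ≠ 0 := Matrix.det_ne_zero_of_left_inverse g.inv_val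
  let d : GL (Fin 3) F := GeneralLinearGroup.mkOfDetNeZero !![1, 0, 0; 0, 1, 0; 0, 0, c] (by
    rw [det_fin_three]; simpa using hc0)
  have hdet : ((g * d⁻¹ : GL (Fin 3) F) : Matrix (Fin 3) (Fin 3) F).det = 1 := by
    have h1 : (d : Matrix (Fin 3) (Fin 3) F).det * ((d⁻¹ : GL (Fin 3) F) : Matrix (Fin 3) (Fin 3) F).det = 1 := by
      rw [← det_mul, Units.mul_inv, det_one]
    rw [show (d : Matrix (Fin 3) (Fin 3) F).det = c by
      show (!![1, 0, 0; 0, 1, 0; 0, 0, c] : Matrix (Fin 3) (Fin 3) F).det = c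
      simp [det_fin_three]] at h1
    rw [Units.val_mul, det_mul, ← hc, h1]
  let s : SL(3, F) := ⟨_, hdet⟩
  have hgd : g = Matrix.SpecialLinearGroup.toGL s * d := by
    rw [show Matrix.SpecialLinearGroup.toGL s = g * d⁻¹ from Units.ext rfl, inv_mul_cancel_right]
  have hγu : γ u = u := by
    rcases hγ with rfl | rfl
    · rfl
    · rw [AutPSL.invTransSL_apply, inv_eq_of_mul_eq_one_right hu2]
      apply Subtype.ext
      rw [Matrix.SpecialLinearGroup.coe_transpose]
      ext i j; fin_cases i <;> fin_cases j <;> simp [u]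
  have hσu : fieldSL σ u = u := by
    apply Subtype.ext
    rw [AutPSL.fieldSL_coe]
    ext i j; fin_cases i <;> fin_cases j <;> simp [u]
  have hdu : conjSL d u = u := by
    apply Subtype.ext
    have h1 : (d : Matrix (Fin 3) (Fin 3) F) * u = (u : Matrix (Fin 3) (Fin 3) F) * d := by
      show (!![1, 0, 0; 0, 1, 0; 0, 0, c] : Matrix (Fin 3) (Fin 3) F) * u = _ * !![1, 0, 0; 0, 1, 0; 0, 0, c]
      ext i j; fin_cases i <;> fin_cases j <;> simp [u, Matrix.mul_apply, Fin.sum_univ_three]
    rw [AutPSL.conjSL_coe, h1, Units.mul_inv_cancel_right]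
  refine ⟨QuotientGroup.mk s, ?_⟩
  rw [toPSLAut_mk, MulAut.mul_apply, MulAut.mul_apply, hγu, hσu, hgd, map_mul, MulAut.mul_apply, hdu,
    conjSL_toGL]
  rfl

/-- `PSL₃(4)` is the whole group. -/
theorem psl_three_eq_top (h : IsCIT Q) (hC : Subgroup.centralizer (M : Set Q) = ⊥) (e : M ≃* P₃)
    (hF : Fintype.card F = 4) : M = ⊤ := by
  obtain ⟨t, ht, htφ⟩ := exists_fixed_invol hF
  have htQ : orderOf ((e.symm t : M) : Q) = 2 := by rw [Subgroup.orderOf_coe, e.symm.orderOf_eq, ht]
  refine (Subgroup.eq_top_iff' M).2 fun g => by_contra fun hg => ?_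
  obtain ⟨a, ψ, ha, hψ⟩ := CNStructure.exists_form_psl_three hF (actHom e g)
  have hy : actHom e (((e.symm a : M) : Q)⁻¹ * g) = ψ := by
    rw [map_mul, map_inv, actHom_symm, ha, inv_mul_cancel_left]
  set y := ((e.symm a : M) : Q)⁻¹ * g with hy'
  have hyM : y ∉ M := fun hm => hg (by simpa [hy'] using M.mul_mem (e.symm a).2 hm)
  -- some two-power of `y` lies in the socle
  obtain ⟨b, hb⟩ := htφ (actHom e y)
  have hb' : y * ((e.symm t : M) : Q) * y⁻¹ =
      ((e.symm b : M) : Q) * ((e.symm t : M) : Q) * ((e.symm b : M) : Q)⁻¹ := by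
    have h1 := CNStructure.actHom_apply e y (e.symm t)
    rw [MulEquiv.apply_symm_apply, hb] at h1
    have h2 := congrArg (fun x : M => (x : Q)) (congrArg e.symm h1)
    simpa using h2.symm
  have hc : Commute (((e.symm b : M) : Q)⁻¹ * y) ((e.symm t : M) : Q) := by
    show ((e.symm b : M) : Q)⁻¹ * y * _ = _ * (((e.symm b : M) : Q)⁻¹ * y)
    calc ((e.symm b : M) : Q)⁻¹ * y * ((e.symm t : M) : Q)
        = ((e.symm b : M) : Q)⁻¹ * (y * ((e.symm t : M) : Q) * y⁻¹) * y := by group
      _ = _ := by rw [hb']; group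
  obtain ⟨k, hk⟩ := h _ htQ ⟨_, Subgroup.mem_centralizer_singleton_iff.2 hc.eq⟩
  have hk' : (((e.symm b : M) : Q)⁻¹ * y) ^ 2 ^ k = 1 := congrArg Subtype.val hk
  refine false_of_fixesPair h e hy (even_of_sq_mem hyM (k := k) ?_) hψ
  rw [← QuotientGroup.eq_one_iff, QuotientGroup.mk_pow]
  have h1 := congrArg (fun x : Q => (x : Q ⧸ M)) hk'
  simp only [QuotientGroup.mk_pow, QuotientGroup.mk_mul, QuotientGroup.mk_inv, QuotientGroup.mk_one,
    (QuotientGroup.eq_one_iff ((e.symm b : M) : Q)).2 (e.symm b).2, inv_one, one_mul] at h1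
  exact h1

end Plane

end CfsgLib.FGS74.ThreeOrders
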