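import Cfsg.Agent.FGS74.ThreeOrders.Kernels
import Cfsg.Agent.FGS74.ThreeOrders.OuterCIT
import Cfsg.Agent.CITAlmost.Outer
import Cfsg.Agent.CITAlmost.SzRecognition
import Cfsg.Agent.CITGroups.SuzukiUpgrade
import Cfsg.Agent.CITGroups.Main
import Cfsg.Agent.S2475
import Cfsg.Agent.S0252
import Cfsg.Agent.S0253

/-!
# Groups with an element of order four

They are CIT groups; the classification of the simple ones and the kernels and outer parts give
the list.
-/

set_option autoImplicit false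
set_option linter.style.haveILetI false

namespace CfsgLib.FGS74.ThreeOrders

open Subgroup
open CfsgLib.CITGroups (IsCIT)
open scoped MatrixGroups

universe u

/-- The list of the theorem. -/
def Listed (G : Type u) [Group G] : Prop :=
  (∃ (F : Type) (_ : Field F) (_ : Fintype F), CharP F 2 ∧ 4 ≤ Fintype.card F ∧
      (Fintype.card F + 1).primeFactorsList.length ≤ 2 ∧ (Fintype.card F - 1).primeFactorsList.length ≤ 2 ∧
      Nonempty (G ⧸ Cfsg.pCore 2 G ≃* Matrix.ProjectiveSpecialLinearGroup (Fin 2) F)) ∨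
  (∃ (F : Type) (_ : Field F) (_ : Fintype F), 5 < Fintype.card F ∧
      (Fintype.card F % 8 = 3 ∨ Fintype.card F % 8 = 5) ∧
      ((Fintype.card F + 1) / 2).primeFactorsList.length ≤ 2 ∧
      ((Fintype.card F - 1) / 2).primeFactorsList.length ≤ 2 ∧
      Nonempty (G ≃* Matrix.ProjectiveSpecialLinearGroup (Fin 2) F)) ∨
  (∃ (F : Type) (_ : Field F) (_ : Fintype F), (Fintype.card F = 7 ∨ Fintype.card F = 9) ∧
      Nonempty (G ≃* Matrix.ProjectiveSpecialLinearGroup (Fin 2) F)) ∨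
  (∃ (F : Type) (_ : Field F) (_ : Fintype F), Fintype.card F = 4 ∧
      Nonempty (G ≃* Matrix.ProjectiveSpecialLinearGroup (Fin 3) F)) ∨
  (∃ n : ℕ, 1 ≤ n ∧ IsSimpleGroup G ∧
      Nat.card G = (2 ^ (2 * n + 1)) ^ 2 * ((2 ^ (2 * n + 1)) ^ 2 + 1) * (2 ^ (2 * n + 1) - 1) ∧
      (2 ^ (2 * n + 1) - 1).primeFactorsList.length ≤ 2 ∧
      (2 ^ (2 * n + 1) - 2 ^ (n + 1) + 1).primeFactorsList.length ≤ 2 ∧
      (2 ^ (2 * n + 1) + 2 ^ (n + 1) + 1).primeFactorsList.length ≤ 2)

variable {G : Type u} [Group G] [Finite G]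

/-- `PSL₂(2)` and `PSL₂(3)` are solvable. -/
theorem four_le_card {K : Type*} [Group K] [Finite K] (hns : ¬ Group.IsSolvable K) {F : Type*} [Field F]
    [Fintype F] (e : K ≃* PSL(2, F)) : 4 ≤ Fintype.card F := by
  by_contra h4
  obtain ⟨s, t, hs, ht, hs2, ht2, hst, hsd, htd⟩ := exists_two_odd_primes hns
  have hmul := Linear.card_PSL_two_mul (F := F)
  rw [← Nat.card_congr e.toEquiv] at hmul
  have hF1 : 1 < Fintype.card F := Fintype.one_lt_card
  have hle : ∀ r : ℕ, r.Prime → r ≠ 2 → r ∣ Nat.card K → r = 3 := by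
    intro r hr hr2 hd
    have h2 : r ∣ 2 ^ 3 * 3 := by
      have hd' : r ∣ Nat.gcd 2 (Fintype.card F - 1) * Nat.card K := dvd_mul_of_dvd_right hd _
      rw [hmul] at hd'
      rcases (show Fintype.card F = 2 ∨ Fintype.card F = 3 by omega) with h | h <;>
        (rw [h] at hd'; exact hd'.trans (by norm_num))
    exact (Nat.prime_dvd_prime_iff_eq hr Nat.prime_three).1 ((hr.dvd_mul.1 h2).resolve_left fun h =>
      hr2 ((Nat.prime_dvd_prime_iff_eq hr Nat.prime_two).1 (hr.dvd_of_dvd_pow h)))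
  exact hst ((hle s hs hs2 hsd).trans (hle t ht ht2 htd).symm)

/-- The torus orders of `PSL₂` have at most two prime factors. -/
theorem length_torus_le (h : TwoOrders G) {F : Type*} [Field F] [Fintype F] (e : G ≃* PSL(2, F))
    (h4 : 4 ≤ Fintype.card F) {k : ℕ}
    (hk : k = (Fintype.card F - 1) / Nat.gcd 2 (Fintype.card F - 1) ∨
      k = (Fintype.card F + 1) / Nat.gcd 2 (Fintype.card F - 1)) : k.primeFactorsList.length ≤ 2 := by
  obtain ⟨p, hp⟩ := CharP.exists F
  haveI := Fact.mk (CharP.char_is_prime F p)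
  haveI := hp
  obtain ⟨x, hx⟩ : k ∈ Set.range (orderOf : PSL(2, F) → ℕ) := by
    rw [Cfsg.Agent.S2475.result (F := F) p h4]
    rcases hk with rfl | rfl
    · exact Or.inr (Or.inl dvd_rfl)
    · exact Or.inr (Or.inr dvd_rfl)
  rw [← hx]
  exact (h.of_mulEquiv e).length_primeFactorsList_le x

theorem pCore_eq_bot_iso (h : Cfsg.pCore 2 G = ⊥) {K : Type*} [Group K]
    (e : G ⧸ Cfsg.pCore 2 G ≃* K) : Nonempty (G ≃* K) :=
  ⟨(QuotientGroup.quotientBot.symm.trans (QuotientGroup.quotientMulEquivOfEq h.symm)).trans e⟩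

/-- A group with an element of order four is on the list. -/
theorem listed_of_four (hns : ¬ Group.IsSolvable G) (h : TwoOrders G) {g₄ : G} (hg₄ : orderOf g₄ = 4) :
    Listed G := by
  classical
  haveI := Fact.mk Nat.prime_two
  have h24 : ∀ g : G, 2 ∣ orderOf g → orderOf g = 2 ∨ orderOf g = 4 := by
    intro g hg
    rcases h.eq_prime_or_mul Nat.prime_two hg with h2 | ⟨q, hq, ho⟩
    · exact Or.inl h2
    · refine Or.inr ?_
      rw [ho, h.mul_prime_unique Nat.prime_two hq Nat.prime_two ho (g' := g₄) (by rw [hg₄])]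
  have hcit : IsCIT G := CITAlmost.isCIT_of_isolated fun r hr hr2 ⟨y, hy⟩ => by
    rcases h24 y (hy ▸ dvd_mul_right 2 r) with h2 | h4
    · rw [hy] at h2; exact hr.ne_one (by omega)
    · rw [hy] at h4; exact hr2 (by omega)
  set R := Cfsg.pCore 2 G with hRdef
  haveI : R.Normal := CfsgLib.LocalStructure.pCore_normal
  have hR : IsPGroup 2 R := CfsgLib.LocalStructure.pCore_isPGroup
  have hQ := hcit.quotient R hR
  have hQo := h.quotient R
  have h8 : ∀ g : G ⧸ R, orderOf g ≠ 8 := fun g hg => by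
    have := hQo.length_primeFactorsList_le g
    rw [hg, show (8 : ℕ) = 2 ^ 3 by norm_num, Nat.prime_two.primeFactorsList_pow,
      List.length_replicate] at this
    omega
  obtain ⟨M, hMn, hMs, hMnc, hMC, t, htM, ht⟩ := CITAlmost.exists_socle hQ
    (CITAlmost.not_isSolvable_quotient hns R hR) (CITAlmost.pCore_quotient_eq_bot 2 R rfl)
  haveI := hMn
  haveI := hMs
  have hna : ∃ x y : M, x * y ≠ y * x := by
    by_contra hc
    push Not at hc
    exact hMnc ⟨⟨hc⟩⟩
  have hMns : ¬ Group.IsSolvable M := fun hs =>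
    hMnc ⟨⟨fun a b => IsSimpleGroup.comm_iff_isSolvable.2 hs a b⟩⟩
  -- the equivalence once the socle is everything
  have htop : ∀ {K : Type} [Group K], M = ⊤ → (M ≃* K) → Nonempty (G ⧸ R ≃* K) := fun hM e =>
    ⟨(Subgroup.topEquiv.symm.trans (MulEquiv.subgroupCongr hM.symm)).trans e⟩
  rcases CITGroups.simple_classification hna (hQ.subgroup M) with
    ⟨F, iF, iT, hF, ⟨e⟩⟩ | ⟨F, iF, iT, hF, ⟨e⟩⟩ | ⟨H, hH, hSu⟩
  · have h4F := four_le_card hMns e
    -- even characteristic
    have heven : ∀ (K : Type) [Field K] [Fintype K] (n : ℕ), Fintype.card K = 2 ^ n →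
        (M ≃* PSL(2, K)) → Listed G := by
      intro K _ _ n hn eK
      have h4 := four_le_card hMns eK
      have hn0 : n ≠ 0 := by rintro rfl; rw [pow_zero] at hn; omega
      haveI : CharP K 2 := charP_of_card_eq_prime_pow hn
      obtain ⟨eQ⟩ := htop (CITAlmost.psl_two_eq_top hQ M hMC eK) eK
      have hg : Nat.gcd 2 (Fintype.card K - 1) = 1 := by
        refine Nat.prime_two.coprime_iff_not_dvd.2 ?_
        have : 2 ∣ Fintype.card K := hn ▸ dvd_pow_self 2 hn0
        omega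
      refine Or.inl ⟨K, inferInstance, inferInstance, inferInstance, h4, ?_, ?_, ⟨eQ⟩⟩
      · exact length_torus_le hQo eQ h4 (Or.inr (by rw [hg, Nat.div_one]))
      · exact length_torus_le hQo eQ h4 (Or.inl (by rw [hg, Nat.div_one]))
    have hseven : Fintype.card F = 7 → Listed G := fun h7 => by
      obtain ⟨eQ⟩ := htop (psl_seven_eq_top hQ hMC e h7) e
      exact Or.inr (Or.inr (Or.inl ⟨F, iF, iT, Or.inl h7,
        pCore_eq_bot_iso (eq_bot_psl_seven hcit h24 hR h7 eQ.symm) eQ⟩))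
    rcases hF with h9 | ⟨n, hn⟩ | ⟨hp, k, hk⟩
    · obtain ⟨eQ⟩ := htop (psl_nine_eq_top hQ h8 hMC e h9) e
      exact Or.inr (Or.inr (Or.inl ⟨F, iF, iT, Or.inr h9,
        pCore_eq_bot_iso (eq_bot_psl_nine hcit hR h9 eQ.symm) eQ⟩))
    · exact heven F n hn e
    · -- Fermat and Mersenne primes
      have hk2 : 2 ≤ k := by
        by_contra hlt
        interval_cases k <;> omega
      have hg : Nat.gcd 2 (Fintype.card F - 1) = 2 := by
        refine Nat.gcd_eq_left ?_
        have := hp.odd_of_ne_two (by omega)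
        obtain ⟨r, hr⟩ := this
        omega
      have h2k : 2 ^ k = 2 * 2 ^ (k - 1) := by rw [← pow_succ', Nat.sub_add_cancel (by omega)]
      have hlen := length_torus_le ((hQo.subgroup M)) e h4F (k := 2 ^ (k - 1)) (by
        rw [hg]; rcases hk with hk | hk
        · exact Or.inl (by omega)
        · exact Or.inr (by omega))
      rw [Nat.prime_two.primeFactorsList_pow, List.length_replicate] at hlen
      obtain rfl | rfl : k = 2 ∨ k = 3 := by omega
      · rcases hk with hk | hk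
        · obtain ⟨e5⟩ := Cfsg.Agent.S0253.result (F := F) (by omega)
          obtain ⟨e4⟩ := Cfsg.Agent.S0252.result Linear.card_gf4
          exact heven Linear.GF4 2 Linear.card_gf4 (e.trans (e5.trans e4.symm))
        · omega
      · rcases hk with hk | hk
        · exact absurd (show Fintype.card F = 9 by omega) (fun h9 => by rw [h9] at hp; norm_num at hp)
        · exact hseven (by omega)
  · obtain ⟨eQ⟩ := htop (psl_three_eq_top hQ hMC e hF) e
    exact Or.inr (Or.inr (Or.inr (Or.inl ⟨F, iF, iT, hF,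
      pCore_eq_bot_iso (eq_bot_psl_three hcit h24 hR hF eQ.symm) eQ⟩)))
  · obtain ⟨K, fK, tK, m, hm, hK, ⟨e⟩⟩ := hH.isoSuzuki hSu
    have hS : CfsgLib.Suzuki.SzField K m := ⟨hm, hK⟩
    haveI : Nontrivial ((↥M) ⧸ normalizer (H : Set M)) :=
      CfsgLib.SEmbed.nontrivial_cosets hH.stronglyEmbedded
    have hQM := CITAlmost.isPGroup_quotient hQ M htM ht fun s hs hso => by
      obtain ⟨c, hc⟩ := isConj_iff.1 (CfsgLib.SEmbed.isConj_invol hH.uf
        (s := (⟨t, htM⟩ : M)) (t := ⟨s, hs⟩) (by rwa [Subgroup.orderOf_mk])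
        (by rwa [Subgroup.orderOf_mk]))
      exact ⟨c, c.2, congrArg Subtype.val hc⟩
    have eS : M ≃* Cfsg.Sz K m := e.trans (CfsgLib.Suzuki.lieSzEquiv hS).symm
    obtain ⟨eQ⟩ := htop (CITAlmost.eq_top_of_odd_out M hMC hQM (by
      rw [CfsgLib.AutSuzuki.card_out_congr eS, CfsgLib.AutSuzuki.card_out_sz hS]
      exact ⟨m, rfl⟩)) eS
    have hR0 : R = ⊥ := eq_bot_suzuki hcit h24 (CITAlmost.isCIT_of_equiv hQ eQ) hR hS eQ.symm
    obtain ⟨eG⟩ := pCore_eq_bot_iso hR0 eQ
    have hSzo : TwoOrders (Cfsg.Sz K m) := h.of_mulEquiv eG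
    haveI : IsSimpleGroup (Cfsg.Sz K m) := eS.symm.isSimpleGroup
    have htorus : ∀ k, (k = Fintype.card K + 2 ^ (m + 1) + 1 ∨ k = Fintype.card K - 2 ^ (m + 1) + 1) →
        k.primeFactorsList.length ≤ 2 := by
      intro k hk
      obtain ⟨z, hz, hzk, -⟩ := CfsgLib.Suzuki.exists_torus hS hk
      haveI := hz.cyclic hS
      obtain ⟨g, hg⟩ := IsCyclic.exists_generator (α := CfsgLib.Suzuki.cT z)
      rw [← hzk, ← orderOf_eq_card_of_forall_mem_zpowers hg, ← Subgroup.orderOf_coe g]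
      exact hSzo.length_primeFactorsList_le _
    refine Or.inr (Or.inr (Or.inr (Or.inr ⟨m, hm, eG.isSimpleGroup, ?_, ?_, ?_, ?_⟩)))
    · rw [Nat.card_congr eG.toEquiv, CfsgLib.Suzuki.card_sz hS, hK]
    · obtain ⟨μ, hμ⟩ := IsCyclic.exists_generator (α := Kˣ)
      rw [← hK, ← Fintype.card_units, ← Nat.card_eq_fintype_card,
        ← orderOf_eq_card_of_forall_mem_zpowers hμ,
        ← orderOf_injective _ (CfsgLib.Suzuki.torSz_injective hS) μ]
      exact hSzo.length_primeFactorsList_le _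
    · exact hK ▸ htorus _ (Or.inr rfl)
    · exact hK ▸ htorus _ (Or.inl rfl)

end CfsgLib.FGS74.ThreeOrders
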