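import Cfsg.Agent.FGS74.ThreeOrders.Basic
import Cfsg.Agent.MinNormal.Factors
import Cfsg.Agent.S0144
import Cfsg.Agent.S0205
import Mathlib.GroupTheory.Transfer
import Mathlib.Tactic.Group

/-!
# General tools for groups in which no prime divides three element orders
-/

set_option autoImplicit false
set_option linter.style.haveILetI false

namespace CfsgLib.FGS74.ThreeOrders

open Subgroup
open scoped commutatorElement

universe u

variable {G : Type u} [Group G] [Finite G]

/-- A group with at most two prime divisors is solvable. -/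
theorem isSolvable_of_two_primes {p q : ℕ} (hp : p.Prime) (hq : q.Prime) (hne : p ≠ q)
    (h : ∀ s : ℕ, s.Prime → s ∣ Nat.card G → s = p ∨ s = q) : Group.IsSolvable G := by
  classical
  refine Cfsg.Agent.S0144.result p q ((Nat.card G).factorization p) ((Nat.card G).factorization q) hp hq ?_
  refine Nat.eq_of_factorization_eq Nat.card_pos.ne'
    (by positivity [hp.pos, hq.pos]) fun s => ?_
  rw [Nat.factorization_mul (by positivity [hp.pos]) (by positivity [hq.pos]), hp.factorization_pow,
    hq.factorization_pow, Finsupp.add_apply, Finsupp.single_apply, Finsupp.single_apply]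
  by_cases hsp : p = s
  · subst hsp; rw [if_pos rfl, if_neg (Ne.symm hne), add_zero]
  by_cases hsq : q = s
  · subst hsq; rw [if_pos rfl, if_neg hsp, zero_add]
  rw [if_neg hsp, if_neg hsq, add_zero, Nat.factorization_eq_zero_iff]
  by_contra! hs
  rcases h s hs.1 hs.2.1 with e | e
  · exact hsp e.symm
  · exact hsq e.symm

/-- A nonsolvable group has three prime divisors. -/
theorem exists_two_odd_primes (hns : ¬ Group.IsSolvable G) :
    ∃ s t : ℕ, s.Prime ∧ t.Prime ∧ s ≠ 2 ∧ t ≠ 2 ∧ s ≠ t ∧ s ∣ Nat.card G ∧ t ∣ Nat.card G := by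
  by_contra! hall
  by_cases hodd : ∃ s : ℕ, s.Prime ∧ s ≠ 2 ∧ s ∣ Nat.card G
  · obtain ⟨s, hs, hs2, hsd⟩ := hodd
    refine hns (isSolvable_of_two_primes Nat.prime_two hs (Ne.symm hs2) fun t ht htd => ?_)
    by_contra! ht'
    exact hall s t hs ht hs2 ht'.1 (Ne.symm ht'.2) hsd htd
  · exact hns (isSolvable_of_two_primes Nat.prime_two Nat.prime_three (by norm_num) fun t ht htd =>
      Or.inl (by_contra fun h2 => hodd ⟨t, ht, h2, htd⟩))

omit [Finite G] in
theorem exists_orderOf_prime_mem [Finite G] {H : Subgroup G} {s : ℕ} (hs : s.Prime)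
    (hd : s ∣ Nat.card H) : ∃ x ∈ H, orderOf x = s := by
  haveI := Fact.mk hs
  obtain ⟨x, hx⟩ := exists_prime_orderOf_dvd_card' s hd
  exact ⟨x, x.2, by rw [orderOf_coe, hx]⟩

/-- A subgroup without elements of order two is solvable. -/
theorem isSolvable_of_no_involution {H : Subgroup G} (h : ∀ x ∈ H, orderOf x ≠ 2) :
    Group.IsSolvable H := by
  refine Cfsg.Agent.S0205.result (Nat.not_even_iff_odd.1 fun he => ?_)
  obtain ⟨x, hx, hxo⟩ := exists_orderOf_prime_mem Nat.prime_two (even_iff_two_dvd.1 he)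
  exact h x hx hxo

theorem even_card_of_nonsolvable {H : Subgroup G} (hH : ¬ Group.IsSolvable H) :
    ∃ t ∈ H, orderOf t = 2 := by
  by_contra! h
  exact hH (isSolvable_of_no_involution h)

/-- A nonsolvable group has a perfect nonsolvable normal subgroup. -/
theorem exists_perfect (hns : ¬ Group.IsSolvable G) :
    ∃ L : Subgroup G, L.Normal ∧ ¬ Group.IsSolvable L ∧ ⁅L, L⁆ = L := by
  obtain ⟨L, hL⟩ := (Set.toFinite {L : Subgroup G | L.Normal ∧ ¬ Group.IsSolvable L}).exists_minimal
    ⟨⊤, inferInstance, fun h => hns (haveI := h; Group.isSolvable_of_surjective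
      (f := (Subgroup.topEquiv : (⊤ : Subgroup G) ≃* G).toMonoidHom) Subgroup.topEquiv.surjective)⟩
  haveI := hL.prop.1
  refine ⟨L, hL.prop.1, hL.prop.2, by_contra fun hne => ?_⟩
  have hle : ⁅L, L⁆ ≤ L := commutator_le_self L
  have hsol : Group.IsSolvable ↥⁅L, L⁆ := by
    by_contra hns'
    exact hne (le_antisymm hle (hL.le_of_le ⟨inferInstance, hns'⟩ hle))
  refine hL.prop.2 ?_
  have hc : commutator L = ⁅L, L⁆.subgroupOf L := by
    rw [subgroupOf, ← map_subtype_commutator, comap_map_eq_self_of_injective L.subtype_injective]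
  haveI : Group.IsSolvable ↥(commutator L) := by
    rw [hc]
    exact Group.isSolvable_of_isSolvable_injective (f := (subgroupOfEquivOfLe hle).toMonoidHom)
      (subgroupOfEquivOfLe hle).injective
  exact Group.isSolvable_of_ker_le_range (commutator L).subtype (Abelianization.of)
    (by rw [Abelianization.ker_of, range_subtype])

omit [Finite G] in
/-- A minimal normal subgroup that is solvable is commutative. -/
theorem commute_of_isMinNormal {V : Subgroup G} (hV : MinNormal.IsMinNormal V)
    (hsol : Group.IsSolvable V) : ∀ a ∈ V, ∀ b ∈ V, Commute a b := by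
  haveI := hV.normal
  rcases hV.minimal ⁅V, V⁆ inferInstance (commutator_le_self V) with h | h
  · intro a ha b hb
    exact commutatorElement_eq_one_iff_mul_comm.1 (mem_bot.1 (h ▸ commutator_mem_commutator ha hb))
  · haveI := hsol
    haveI : Nontrivial V := (nontrivial_iff_ne_bot V).2 hV.ne_bot
    have hlt := Group.IsSolvable.commutator_lt_top_of_nontrivial (G := V)
    refine absurd (Subgroup.map_injective V.subtype_injective ?_) hlt.ne
    rw [map_subtype_commutator, h, ← MonoidHom.range_eq_map, range_subtype]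

/-- A commutative minimal normal subgroup is an elementary abelian group. -/
theorem exists_exponent_prime {V : Subgroup G} (hV : MinNormal.IsMinNormal V)
    (hc : ∀ a ∈ V, ∀ b ∈ V, Commute a b) :
    ∃ q : ℕ, q.Prime ∧ (∀ v ∈ V, v ^ q = 1) ∧ ∃ n, Nat.card V = q ^ n := by
  obtain ⟨q, hq, hqd⟩ := Nat.exists_prime_and_dvd
    (fun h => hV.ne_bot ((card_eq_one (H := V)).1 h))
  haveI := Fact.mk hq
  let U : Subgroup G :=
    { carrier := {v | v ∈ V ∧ v ^ q = 1}
      one_mem' := ⟨one_mem V, one_pow q⟩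
      mul_mem' := fun ha hb => ⟨mul_mem ha.1 hb.1, by
        rw [(hc _ ha.1 _ hb.1).mul_pow, ha.2, hb.2, one_mul]⟩
      inv_mem' := fun ha => ⟨inv_mem ha.1, by rw [inv_pow, ha.2, inv_one]⟩ }
  haveI := hV.normal
  have hUn : U.Normal := ⟨fun v hv g => ⟨hV.normal.conj_mem v hv.1 g, by
    rw [conj_pow, hv.2, mul_one, mul_inv_cancel]⟩⟩
  obtain ⟨x, hxV, hx⟩ := exists_orderOf_prime_mem hq hqd
  have hU : U = V := (hV.minimal U hUn fun v hv => hv.1).resolve_left fun h => by
    have : x ∈ U := ⟨hxV, hx ▸ pow_orderOf_eq_one x⟩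
    rw [h, mem_bot] at this
    rw [this, orderOf_one] at hx
    exact hq.ne_one hx.symm
  have hexp : ∀ v ∈ V, v ^ q = 1 := fun v hv => ((hU ▸ hv : v ∈ U)).2
  exact ⟨q, hq, hexp, IsPGroup.iff_card.1 fun v =>
    ⟨1, Subtype.ext (by rw [pow_one, SubmonoidClass.coe_pow, OneMemClass.coe_one, hexp v v.2])⟩⟩

end CfsgLib.FGS74.ThreeOrders
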