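import Cfsg.Agent.FGS74.ThreeOrders.Norm
import Cfsg.Agent.FGS74.ThreeOrders.Tools
import Cfsg.Agent.CITAlmost.Basic
import Cfsg.Agent.Coprime.Action

/-!
# Frobenius subgroups above a normal two-subgroup
-/

set_option autoImplicit false
set_option linter.style.haveILetI false

namespace CfsgLib.FGS74.ThreeOrders

open Subgroup
open CfsgLib.CITGroups (IsCIT)
open scoped commutatorElement Pointwise

universe u

variable {G : Type u} [Group G] [Finite G]

/-- In a group with two-group involution centralisers nothing of odd order commutes with an involution. -/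
theorem eq_one_of_commute_invol (h : IsCIT G) {t y : G} (ht : orderOf t = 2) (hc : Commute y t)
    (hy : Odd (orderOf y)) : y = 1 :=
  CITGroups.eq_one_of_odd_mem (h t ht) (mem_centralizer_singleton_iff.2 hc.eq) hy

/-- An abelian group of odd order acting on a nontrivial two-group without fixed points is cyclic. -/
theorem false_of_two_commuting (h : IsCIT G) {R : Subgroup G} [R.Normal] (hR : IsPGroup 2 R)
    (hR1 : R ≠ ⊥) {a b : G} {p : ℕ} (hp : p.Prime) (hp2 : p ≠ 2) (hap : a ^ p = 1) (hbp : b ^ p = 1)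
    (hab : Commute a b) (hne : ∀ i : ℕ, b * a ^ i ≠ 1) (ha1 : a ≠ 1) : False := by
  haveI := Fact.mk hp
  haveI := Fact.mk Nat.prime_two
  obtain ⟨V, hV, hVR⟩ := MinNormal.exists_isMinNormal_le R hR1
  haveI := hV.normal
  have hV2 : IsPGroup 2 V := hR.to_le hVR
  have hc : ∀ u ∈ V, ∀ w ∈ V, Commute u w := commute_of_isMinNormal hV (by
    haveI := hV2.isNilpotent; infer_instance)
  letI : CommGroup V :=
    { (inferInstance : Group V) with mul_comm := fun u w => Subtype.ext (hc u u.2 w w.2).eq }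
  obtain ⟨v, hv1⟩ : ∃ v : V, v ≠ 1 := by
    obtain ⟨v, hv⟩ := ne_bot_iff_exists_ne_one.1 hV.ne_bot; exact ⟨v, hv⟩
  have hfix : ∀ g : G, g ^ p = 1 → g ≠ 1 → ∀ w : V, g * w * g⁻¹ = w → w = 1 := by
    intro g hg hg1 w hw
    by_contra hw1
    have hw1' : (w : G) ≠ 1 := fun e => hw1 (Subtype.ext e)
    obtain ⟨k, hk⟩ := hV2 w
    obtain ⟨j, -, hj⟩ := (Nat.dvd_prime_pow Nat.prime_two).1
      (orderOf_dvd_of_pow_eq_one (show (w : G) ^ 2 ^ k = 1 from congrArg Subtype.val hk))
    rcases j with _ | j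
    · exact hw1' (orderOf_eq_one_iff.1 (by rw [hj, pow_zero]))
    have hd : 2 ∣ orderOf (w : G) := hj ▸ dvd_pow_self 2 (Nat.succ_ne_zero j)
    refine hg1 (eq_one_of_commute_invol h (orderOf_pow_orderOf_div (orderOf_pos _).ne' hd) ?_ ?_)
    · exact (show Commute g (w : G) from mul_inv_eq_iff_eq_mul.1 hw).pow_right _
    · rw [orderOf_eq_prime hg hg1]; exact hp.odd_of_ne_two hp2
  let c : G → V →* V := fun g =>
    { toFun := fun w => ⟨g * w * g⁻¹, hV.normal.conj_mem w w.2 g⟩
      map_one' := Subtype.ext (by simp)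
      map_mul' := fun u w => Subtype.ext (by simp [mul_assoc]) }
  have hnorm : ∀ g : G, g ^ p = 1 → g ≠ 1 → ∀ w : V, ∏ i ∈ Finset.range p, c (g ^ i) w = 1 := by
    intro g hg hg1 w
    refine hfix g hg hg1 _ ?_
    have h0 : c (g ^ p) w = c (g ^ 0) w := by rw [hg, pow_zero]
    have h2 := (Finset.prod_range_succ' (fun i => c (g ^ i) w) p).symm.trans
      (Finset.prod_range_succ (fun i => c (g ^ i) w) p)
    rw [h0] at h2
    have h3 : c g (∏ i ∈ Finset.range p, c (g ^ i) w) = ∏ i ∈ Finset.range p, c (g ^ (i + 1)) w := by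
      rw [map_prod]
      exact Finset.prod_congr rfl fun i _ => Subtype.ext (by
        show g * (g ^ i * w * (g ^ i)⁻¹) * g⁻¹ = g ^ (i + 1) * w * (g ^ (i + 1))⁻¹
        rw [pow_succ']; group)
    exact congrArg Subtype.val (h3.trans (mul_right_cancel h2))
  have hmul : ∀ g g' : G, ∀ w : V, c (g * g') w = c g (c g' w) := fun g g' w => Subtype.ext (by
    show g * g' * w * (g * g')⁻¹ = g * (g' * w * g'⁻¹) * g⁻¹
    group)
  have hbne : b ≠ 1 := fun e => hne 0 (by rw [e, pow_zero, mul_one])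
  -- the norms of the subgroups `⟨b a ^ i⟩`
  have hall : ∏ i ∈ Finset.range p, ∏ j ∈ Finset.range p, c ((b * a ^ i) ^ j) v = 1 :=
    Finset.prod_eq_one fun i _ => hnorm _ (by
      rw [(hab.symm.pow_right i).mul_pow, hbp, one_mul, ← pow_mul, mul_comm, pow_mul, hap, one_pow])
      (hne i) v
  rw [Finset.prod_comm] at hall
  have hj : ∀ j ∈ Finset.range p, j ≠ 0 → ∏ i ∈ Finset.range p, c ((b * a ^ i) ^ j) v = 1 := by
    intro j hj hj0
    have hcj : ∀ i, (b * a ^ i) ^ j = (a ^ j) ^ i * b ^ j := fun i => by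
      rw [(hab.symm.pow_right i).mul_pow, ← pow_mul, mul_comm i j, pow_mul]
      exact ((hab.symm.pow_pow j j).pow_right i).eq
    simp only [hcj, hmul]
    refine hnorm _ (by rw [← pow_mul, mul_comm, pow_mul, hap, one_pow]) ?_ _
    intro e
    refine hj0 (Nat.eq_zero_of_dvd_of_lt ?_ (Finset.mem_range.1 hj))
    rw [← orderOf_eq_prime hap ha1]
    exact orderOf_dvd_of_pow_eq_one e
  rw [Finset.prod_eq_single 0 hj (fun h0 => absurd (Finset.mem_range.2 hp.pos) h0)] at hall
  have hone : ∀ i : ℕ, c ((b * a ^ i) ^ 0) v = v := fun i => Subtype.ext (by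
    show (b * a ^ i) ^ 0 * v * ((b * a ^ i) ^ 0)⁻¹ = (v : G); simp)
  simp only [hone, Finset.prod_const, Finset.card_range] at hall
  obtain ⟨k, hk⟩ := hV2 v
  refine hv1 (orderOf_eq_one_iff.1 (Nat.eq_one_of_dvd_coprimes
    (((Nat.coprime_primes hp Nat.prime_two).2 hp2).pow_right k)
    (orderOf_dvd_of_pow_eq_one hall) (orderOf_dvd_of_pow_eq_one hk)))

/-- A Frobenius group `⟨a⟩ ⟨x⟩` above a nontrivial normal two-subgroup gives an element `g` with
`g ^ n ≠ 1` although `g` has order `n` modulo it. -/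
theorem exists_long_element (h : IsCIT G) {R : Subgroup G} [R.Normal] (hR : IsPGroup 2 R)
    (hR1 : R ≠ ⊥) {a x : G} {n : ℕ} (hn : 0 < n) (hxn : x ^ n = 1) (hodd : Odd (orderOf a))
    (hax : x ∈ normalizer (zpowers a : Set G))
    (hfpf : ∀ i, 0 < i → i < n → ∀ k ∈ zpowers a, Commute k (x ^ i) → k = 1) (ha1 : a ≠ 1) :
    ∃ w ∈ R, (w * x) ^ n ≠ 1 := by
  haveI := Fact.mk Nat.prime_two
  obtain ⟨V, hV, hVR⟩ := MinNormal.exists_isMinNormal_le R hR1
  haveI := hV.normal
  have hV2 : IsPGroup 2 V := hR.to_le hVR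
  obtain ⟨e, he⟩ := IsPGroup.iff_card.1 hV2
  have hc : ∀ u ∈ V, ∀ w ∈ V, Commute u w := commute_of_isMinNormal hV (by
    haveI := hV2.isNilpotent; infer_instance)
  have hcop : (Nat.card (zpowers a)).Coprime (Nat.card V) := by
    rw [Nat.card_zpowers, he]
    exact (Nat.coprime_two_right.2 hodd).pow_right e
  obtain ⟨w, hw, hwx⟩ := exists_pow_mul_ne (V := V) (K := zpowers a) hn hc le_normalizer_of_normal
    (le_normalizer_of_normal (H := V) (mem_top x)) hax hfpf (fun v hv hcv => by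
      by_contra hv1
      obtain ⟨k, hk⟩ := hV2 ⟨v, hv⟩
      obtain ⟨j, -, hj⟩ := (Nat.dvd_prime_pow Nat.prime_two).1
        (orderOf_dvd_of_pow_eq_one (show v ^ 2 ^ k = 1 from congrArg Subtype.val hk))
      rcases j with _ | j
      · exact hv1 (orderOf_eq_one_iff.1 (by rw [hj, pow_zero]))
      refine ha1 (eq_one_of_commute_invol h (orderOf_pow_orderOf_div (orderOf_pos v).ne'
        (hj ▸ dvd_pow_self 2 (Nat.succ_ne_zero j))) ((hcv a (mem_zpowers a)).pow_right _) hodd))
    hcop hV.ne_bot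
  exact ⟨w, hVR hw, by rwa [hxn] at hwx⟩

/-- A Frobenius group `ā x̄` in the quotient by a normal two-subgroup lifts. -/
theorem exists_lift {R : Subgroup G} [R.Normal] (hR : IsPGroup 2 R) {a x : G ⧸ R}
    (ha : Odd (orderOf a)) (hax : x ∈ normalizer (zpowers a : Set (G ⧸ R))) :
    ∃ a' x' : G, (a' : G ⧸ R) = a ∧ (x' : G ⧸ R) = x ∧ Odd (orderOf a') ∧
      x' ∈ normalizer (zpowers a' : Set G) ∧ zpowers a' ⊓ R = ⊥ := by
  haveI := Fact.mk Nat.prime_two
  obtain ⟨g, rfl⟩ := QuotientGroup.mk_surjective a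
  obtain ⟨y, rfl⟩ := QuotientGroup.mk_surjective x
  obtain ⟨k, m, hm, ho⟩ := Nat.exists_eq_two_pow_mul_odd (orderOf_pos g).ne'
  obtain ⟨i, hi⟩ := exists_pow_eq_self_of_coprime (x := (g : G ⧸ R)) (n := 2 ^ k)
    ((Nat.coprime_two_left.2 ha).pow_left k)
  set a' := (g ^ 2 ^ k) ^ i with ha'
  have hga : (a' : G ⧸ R) = (g : G ⧸ R) := by rw [ha', QuotientGroup.mk_pow, QuotientGroup.mk_pow, hi]
  have ha'o : Odd (orderOf a') := by
    refine Odd.of_dvd_nat ?_ (orderOf_pow_dvd i)
    rw [orderOf_pow, Nat.gcd_eq_right (ho ▸ dvd_mul_right _ _), ho,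
      Nat.mul_div_cancel_left _ (by positivity)]
    exact hm
  set f := QuotientGroup.mk' R with hf
  set A := zpowers a' with hA
  have hAR : A ⊓ R = ⊥ := by
    obtain ⟨j, hj⟩ := IsPGroup.iff_card.1 hR
    refine Coprime.inf_eq_bot_of_coprime ?_
    rw [hA, Nat.card_zpowers, hj]
    exact (Nat.coprime_two_right.2 ha'o).pow_right j
  -- `y` moves `A` into `A R`
  set H := A ⊔ R with hH
  have hmap : A.map f = zpowers (g : G ⧸ R) := by
    rw [hA, MonoidHom.map_zpowers, hf, QuotientGroup.mk'_apply, hga]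
  have hyH : y ∈ normalizer (H : Set G) := by
    rw [show H = (A.map f).comap f by rw [comap_map_eq, QuotientGroup.ker_mk', hH], mem_normalizer_iff]
    intro z
    simp only [mem_comap, map_mul, map_inv]
    rw [hmap]
    exact mem_normalizer_iff.1 hax (f z)
  -- Schur–Zassenhaus in `A R`
  have hRH : R ≤ H := le_sup_right
  have hAH : A ≤ H := le_sup_left
  set A₂ := A.map (MulAut.conj y).toMonoidHom with hA₂
  have hA₂H : A₂ ≤ H := by
    rintro _ ⟨z, hz, rfl⟩
    exact conj_mem_of_le_normalizer hyH (hAH hz)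
  have hcardA₂ : Nat.card A₂ = Nat.card A := card_map_of_injective (MulEquiv.injective _)
  have hcop : (Nat.card R).Coprime (Nat.card A) := by
    obtain ⟨j, hj⟩ := IsPGroup.iff_card.1 hR
    rw [hA, Nat.card_zpowers, hj]
    exact (Nat.coprime_two_left.2 ha'o).pow_left j
  haveI : Group.IsSolvable R := by haveI := hR.isNilpotent; infer_instance
  obtain ⟨c, hc, hcA⟩ : ∃ c ∈ R, MulAut.conj c • A₂ = A := by
    refine Coprime.exists_conj_eq_of_sup_eq le_normalizer_of_normal le_normalizer_of_normal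
      (by rwa [hcardA₂]) hcardA₂.symm ?_ (Or.inl inferInstance)
    refine le_antisymm (sup_le le_sup_left (hA₂H.trans (sup_comm A R).le)) (sup_le le_sup_left ?_)
    intro z hz
    have h1 : (MulAut.conj y) (y⁻¹ * z * y) = z := by simp [mul_assoc]
    obtain ⟨u, hu, v, hv, huv⟩ := mem_sup_of_normal_right.1
      (by
        have := conj_mem_of_le_normalizer (inv_mem hyH) (hAH hz)
        rwa [inv_inv] at this : y⁻¹ * z * y ∈ H)
    rw [← huv, map_mul] at h1
    rw [← h1]
    refine mul_mem (mem_sup_right (mem_map_of_mem _ hu)) (mem_sup_left ?_)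
    exact (inferInstance : R.Normal).conj_mem v hv y
  refine ⟨a', c * y, hga, ?_, ha'o, ?_, hAR⟩
  · rw [QuotientGroup.mk_mul, (QuotientGroup.eq_one_iff c).2 hc, one_mul]
  · refine Coprime.mem_normalizer_iff_conj_smul_eq.2 ?_
    rw [map_mul, mul_smul]
    exact hcA

end CfsgLib.FGS74.ThreeOrders
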