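import Cfsg.Agent.FGS74.ThreeOrders.Act
import Cfsg.Agent.CITAlmost.Outer
import Cfsg.Agent.S2475

/-!
# Socles `PSL₂` in groups without elements of order four
-/

set_option autoImplicit false
set_option linter.style.haveILetI false

namespace CfsgLib.FGS74.ThreeOrders

open Matrix CfsgLib.AutPSL
open CfsgLib.CNStructure (actHom actHom_injective commute_of_actHom)
open scoped MatrixGroups

universe u

variable {Q : Type u} [Group Q] [Finite Q] {M : Subgroup Q} [M.Normal] {F : Type*} [Field F] [Fintype F]

local notation "P₂" => Matrix.ProjectiveSpecialLinearGroup (Fin 2) F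

/-- An element of prime order acting as a field automorphism: the prime is three, and some elements
of orders two and three commute. -/
theorem field_prime_eq_three (h : TwoOrders Q) (e : M ≃* P₂) {z : Q} {τ : F ≃+* F} {r : ℕ}
    (hr : r.Prime) (hr2 : r ≠ 2) (hz : orderOf z = r) (hact : actHom e z = toPSLAut (fieldSL τ)) :
    r = 3 ∧ ∃ b : Q, orderOf b = 2 ∧ Commute z b := by
  obtain ⟨⟨j, hj, hjo⟩, d, hd, hdo⟩ := exists_fixed_pair τ
  obtain ⟨b, -, hb, hbo⟩ := exists_commute e hact hj
  obtain ⟨c, -, hc, hco⟩ := exists_commute e hact hd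
  refine ⟨by_contra fun hne => ?_, b, hbo.trans hjo, hb⟩
  exact absurd (h.commute_prime_unique hr Nat.prime_two Nat.prime_three hr2 hne hb hc hz hz
    (hbo.trans hjo) (hco.trans hdo)) (by norm_num)

/-- In even characteristic the socle is the whole group. -/
theorem psl_even_eq_top [CharP F 2] (h : TwoOrders Q) (h4 : ∀ g : Q, orderOf g ≠ 4)
    (hC : Subgroup.centralizer (M : Set Q) = ⊥) (e : M ≃* P₂) (hF : 4 ≤ Fintype.card F) : M = ⊤ := by
  haveI := Fact.mk Nat.prime_two
  by_contra hM
  obtain ⟨g, -, hg⟩ := SetLike.exists_of_lt (lt_top_iff_ne_top.2 hM)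
  obtain ⟨h', σ, hh⟩ := CNStructure.exists_semilinear (actHom e g)
  obtain ⟨m, hm, hy⟩ := exists_shift e hh (w := 1)
    (FiniteField.isSquare_of_char_two (ringChar.eq F 2) _)
  rw [map_one, one_mul] at hy
  have hσ : σ ≠ 1 := fun hσ => hg (by
    rw [hσ, map_one, map_one, ← map_one (actHom e)] at hy
    rw [← inv_mul_eq_one.1 (actHom_injective hC e hy)]
    exact hm)
  obtain ⟨τ, z, r, hr, hrd, hτ, hz, hact⟩ := exists_field_prime hC e hσ hy
  rcases eq_or_ne r 2 with rfl | hr2
  · -- an element of order four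
    obtain ⟨a, ha⟩ : ∃ a : F, τ a ≠ a := by
      by_contra! hh
      have hτ1 : τ = 1 := RingEquiv.ext fun x => hh x
      rw [hτ1, orderOf_one] at hτ
      omega
    obtain ⟨v, hv⟩ := exists_act_uT e hact a
    have hτ2 : τ ^ 2 = 1 := hτ ▸ pow_orderOf_eq_one τ
    have hsum : ∀ x : F, x + x = 0 := fun x => CharTwo.add_self_eq_zero x
    refine h4 v (orderOf_semilinear hC e hv (l := 2) (k := 1) (fun c hc => ha ?_)
      (by rw [show 2 ^ (1 + 1) = 2 * 2 by norm_num, pow_mul, hτ2, one_pow]) (c := 1) ?_)
    · rw [twNorm_uT] at hc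
      have := uT_eq_scalar hc
      simp [Finset.sum_range_succ] at this
      exact add_left_cancel (this.trans (hsum a).symm)
    · rw [twNorm_uT, map_one]
      have h2 : ∀ x, τ (τ x) = x := fun x => DFunLike.congr_fun (show τ * τ = 1 by rw [← sq, hτ2]) x
      apply Units.ext
      have : ∑ i ∈ Finset.range (2 ^ (1 + 1)), (τ ^ i) a = 0 := by
        simp [Finset.sum_range_succ, pow_succ, h2]
        linear_combination hsum a + hsum (τ a)
      rw [this]
      show (!![1, 0; 0, 1] : Matrix (Fin 2) (Fin 2) F) = 1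
      exact one_fin_two.symm
  obtain ⟨rfl, b, hbo, hzb⟩ := field_prime_eq_three h e hr hr2 hz hact
  -- an element of order nine
  obtain ⟨f, -, hf⟩ := FiniteField.card F 2
  have h3f : 3 ∣ (f : ℕ) := hrd.trans (orderOf_dvd_degree hf f.pos σ)
  obtain ⟨l, hl⟩ := h3f
  have h9 : 9 ∣ Fintype.card F - 1 ∨ 9 ∣ Fintype.card F + 1 := by
    rw [hf, hl, pow_mul]
    have hmod : ∀ l : ℕ, (2 ^ 3) ^ l % 9 = if Even l then 1 else 8 := by
      intro l
      induction l with
      | zero => simp
      | succ l ih => rw [pow_succ, Nat.mul_mod, ih]; simp only [Nat.even_add_one]; split_ifs <;> simp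
    have := hmod l
    split_ifs at this <;> omega
  have hgcd : Nat.gcd 2 (Fintype.card F - 1) = 1 := by
    refine Nat.prime_two.coprime_iff_not_dvd.2 ?_
    have : 2 ∣ Fintype.card F := hf ▸ dvd_pow_self 2 f.pos.ne'
    omega
  obtain ⟨x, hx⟩ : 9 ∈ Set.range (orderOf : P₂ → ℕ) := by
    rw [Cfsg.Agent.S2475.result (F := F) 2 hF, hgcd, Nat.div_one, Nat.div_one]
    exact Or.inr h9
  exact h.not_commute_of_sq Nat.prime_three Nat.prime_two (by norm_num)
    (g := ((e.symm x : M) : Q)) (by rw [Subgroup.orderOf_coe, e.symm.orderOf_eq, hx]) hzb hz hbo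

/-- In odd characteristic with elementary Sylow two-subgroups the socle is the whole group. -/
theorem psl_odd_eq_top (h : TwoOrders Q) (h4 : ∀ g : Q, orderOf g ≠ 4)
    (hC : Subgroup.centralizer (M : Set Q) = ⊥) (e : M ≃* P₂)
    (hq : Fintype.card F % 8 = 3 ∨ Fintype.card F % 8 = 5) : M = ⊤ := by
  haveI := Fact.mk Nat.prime_two
  obtain ⟨f, hp, hf⟩ := FiniteField.card F (ringChar F)
  haveI := Fact.mk hp
  have hf2 : ¬ Even (f : ℕ) := by
    rintro ⟨l, hl⟩
    rw [hf, hl, ← two_mul, pow_mul', pow_two, Nat.mul_mod] at hq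
    have := Nat.mod_lt (ringChar F ^ l) (by norm_num : 8 > 0)
    interval_cases (ringChar F ^ l % 8) <;> omega
  have hodd : ∀ σ : F ≃+* F, ∀ r : ℕ, r.Prime → r ∣ orderOf σ → r ≠ 2 := by
    rintro σ r - hd rfl
    exact hf2 (even_iff_two_dvd.2 (hd.trans (orderOf_dvd_degree hf f.pos σ)))
  have h2 : ¬ IsSquare (2 : F) := by
    rw [FiniteField.isSquare_two_iff]; omega
  have h20 : (2 : F) ≠ 0 := fun e => h2 (e ▸ IsSquare.zero)
  let w : GL (Fin 2) F := GeneralLinearGroup.mkOfDetNeZero !![1, -1; 1, 1] (by
    rw [det_fin_two_of]; intro e; exact h20 (by linear_combination e))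
  have hwd : (w : Matrix (Fin 2) (Fin 2) F).det = 2 := by
    show (!![1, -1; 1, 1] : Matrix (Fin 2) (Fin 2) F).det = 2
    rw [det_fin_two_of]; ring
  -- no element acts as the conjugation by `w`
  have hnw : ∀ y : Q, actHom e y ≠ toPSLAut (conjSL w * fieldSL 1) := by
    intro y hy
    have hw2 : ((w ^ 2 : GL (Fin 2) F) : Matrix (Fin 2) (Fin 2) F) = !![0, -2; 2, 0] := by
      rw [pow_two]
      show (!![1, -1; 1, 1] : Matrix (Fin 2) (Fin 2) F) * !![1, -1; 1, 1] = _
      ext i j; fin_cases i <;> fin_cases j <;> norm_num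
    refine h4 y (orderOf_semilinear hC e hy (l := 2) (k := 1) (fun c hc => ?_) (one_pow _)
      (c := Units.mk0 (-4) ?_) ?_)
    · rw [twNorm_one_field, pow_one] at hc
      have := congrArg (fun g : GL (Fin 2) F => (g : Matrix (Fin 2) (Fin 2) F) 1 0) hc
      rw [hw2] at this
      simp at this
      exact h20 this
    · intro e
      exact h20 (mul_self_eq_zero.1 (by linear_combination -e))
    · rw [twNorm_one_field]
      apply Units.ext
      rw [show 2 ^ (1 + 1) = 2 * 2 by norm_num, pow_mul, pow_two (w ^ 2), Units.val_mul, hw2]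
      ext i j; fin_cases i <;> fin_cases j <;> norm_num [GeneralLinearGroup.scalar]
  by_contra hM
  obtain ⟨g, -, hg⟩ := SetLike.exists_of_lt (lt_top_iff_ne_top.2 hM)
  obtain ⟨σ, ⟨hσ, y, hy⟩ | hall⟩ := exists_outer hC e hg
  · obtain ⟨τ, z, r, hr, hrd, hτ, hz, hact⟩ := exists_field_prime hC e hσ hy
    obtain ⟨rfl, b, hbo, hzb⟩ := field_prime_eq_three h e hr (hodd σ r hr hrd) hz hact
    let s : SL(2, F) := ⟨!![1, 1; 0, 1], by simp [det_fin_two_of]⟩
    have hfix : fieldSL τ s = s := by
      apply Subtype.ext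
      rw [fieldSL_coe]; ext i j; fin_cases i <;> fin_cases j <;> simp [s]
    have hso : orderOf (QuotientGroup.mk s : P₂) = ringChar F := by
      refine orderOf_eq_prime ?_ (mk_ne_one_of_entry (Or.inl (by simp [s])))
      have hpow : ∀ k : ℕ, ((s ^ k : SL(2, F)) : Matrix (Fin 2) (Fin 2) F) = !![1, (k : F); 0, 1] := by
        intro k
        induction k with
        | zero => rw [pow_zero, Nat.cast_zero]; exact one_fin_two
        | succ k ih =>
          rw [pow_succ]
          show ((s ^ k : SL(2, F)) : Matrix (Fin 2) (Fin 2) F) * (s : Matrix (Fin 2) (Fin 2) F) = _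
          rw [ih]
          show (!![1, (k : F); 0, 1] : Matrix (Fin 2) (Fin 2) F) * !![1, 1; 0, 1] = _
          ext i j; fin_cases i <;> fin_cases j <;> simp [add_comm]
      rw [← QuotientGroup.mk_pow, show s ^ ringChar F = 1 from Subtype.ext ?_, QuotientGroup.mk_one]
      rw [hpow, ringChar.Nat.cast_ringChar]
      exact one_fin_two.symm
    obtain ⟨c, -, hzc, hco⟩ := exists_commute e hact hfix
    rcases eq_or_ne (ringChar F) 3 with hp3 | hp3
    · -- characteristic three: an element of order nine
      have hτ3 : τ ^ 3 = 1 := hτ ▸ pow_orderOf_eq_one τ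
      have h3 : (3 : F) = 0 := by
        have := ringChar.Nat.cast_ringChar (R := F)
        rw [hp3] at this; exact_mod_cast this
      have hτ3' : ∀ x, τ (τ (τ x)) = x := fun x =>
        DFunLike.congr_fun (show τ * (τ * τ) = 1 by rw [← mul_assoc]; simpa [pow_succ] using hτ3) x
      obtain ⟨a, ha⟩ : ∃ a : F, a + τ a + τ (τ a) ≠ 0 := by
        by_contra! hh
        have hb : ∀ x, τ (τ x - x) = τ x - x := fun x => by
          rw [map_sub]; linear_combination hh x - h3 * τ x
        have hτ1 : τ = 1 := RingEquiv.ext fun x => by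
          have h1 := hb x
          have h2' := hb (x * x)
          rw [map_mul] at h2'
          rw [map_sub] at h1
          simp only [map_sub, map_mul] at h2'
          have h4' : τ (τ x) = τ x + (τ x - x) := by linear_combination h1
          rw [h4'] at h2'
          have hsq : 2 * ((τ x - x) * (τ x - x)) = 0 := by linear_combination h2'
          have := (mul_eq_zero.1 hsq).resolve_left h20
          exact sub_eq_zero.1 (mul_self_eq_zero.1 this)
        rw [hτ1, orderOf_one] at hτ
        omega
      obtain ⟨v, hv⟩ := exists_act_uT e hact a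
      haveI := Fact.mk Nat.prime_three
      have hvo := orderOf_semilinear hC e hv (l := 3) (k := 1) (fun k hk => ha (by
          rw [twNorm_uT] at hk
          have := uT_eq_scalar hk
          simpa [Finset.sum_range_succ, pow_succ] using this))
        (by rw [show 3 ^ (1 + 1) = 3 * 3 by norm_num, pow_mul, hτ3, one_pow]) (c := 1) (by
          rw [twNorm_uT, map_one]
          have : ∑ i ∈ Finset.range (3 ^ (1 + 1)), (τ ^ i) a = 0 := by
            simp [Finset.sum_range_succ, pow_succ, hτ3']
            linear_combination (a + τ a + τ (τ a)) * h3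
          rw [this]
          exact Units.ext one_fin_two.symm)
      exact h.not_commute_of_sq Nat.prime_three Nat.prime_two (by norm_num) (g := v) hvo hzb hz hbo
    · -- elements of orders six and `3 p`
      have := h.commute_prime_unique Nat.prime_three Nat.prime_two hp (by norm_num) (Ne.symm hp3)
        hzb hzc hz hz hbo (hco.trans hso)
      exact h20 (by have h0 := ringChar.Nat.cast_ringChar (R := F); rw [← this] at h0; exact_mod_cast h0)
  · -- a power acts as a conjugation of non-square determinant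
    obtain ⟨y, hy⟩ := hall w (hwd.symm ▸ h2)
    have hno : Odd (orderOf σ) :=
      Nat.not_even_iff_odd.1 fun he => hodd σ 2 Nat.prime_two (even_iff_two_dvd.1 he) rfl
    have hdet : ∀ k : ℕ, IsSquare ((twNorm σ w k : GL (Fin 2) F) : Matrix (Fin 2) (Fin 2) F).det ↔ Even k := by
      intro k
      induction k with
      | zero => simp
      | succ k ih =>
        rw [twNorm_succ', Units.val_mul, det_mul,
          show ((mapGL (σ ^ k) w : GL (Fin 2) F) : Matrix (Fin 2) (Fin 2) F).det = (σ ^ k) 2 from
            ((RingHom.map_det (σ ^ k).toRingHom _).symm).trans (congrArg (σ ^ k) hwd),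
          map_ofNat, Nat.even_add_one]
        constructor
        · rintro hs hev
          obtain ⟨c₁, hc₁⟩ := ih.2 hev
          obtain ⟨c₂, hc₂⟩ := hs
          have hc₁0 : c₁ ≠ 0 := fun e0 => Matrix.det_ne_zero_of_left_inverse
            (twNorm σ w k).inv_val (by rw [hc₁, e0, mul_zero])
          refine h2 ⟨c₂ / c₁, ?_⟩
          field_simp
          rw [hc₁] at hc₂
          linear_combination hc₂
        · exact fun hev => CNStructure.isSquare_mul_of_not (fun hs => hev (ih.1 hs)) h2
    have hact : actHom e (y ^ orderOf σ) = toPSLAut (conjSL (twNorm σ w (orderOf σ)) * fieldSL 1) := by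
      rw [map_pow, hy, ← map_pow, conjSL_fieldSL_pow, pow_orderOf_eq_one]
    obtain ⟨m, -, hm⟩ := exists_shift e hact (w := w) (by
      rw [Units.val_mul, det_mul]
      refine CNStructure.isSquare_mul_of_not (fun hs => Nat.not_even_iff_odd.2 hno ((hdet _).1 hs))
        fun ⟨c, hc⟩ => h2 ⟨c⁻¹, ?_⟩
      have h1 : (w : Matrix (Fin 2) (Fin 2) F).det * ((w⁻¹ : GL (Fin 2) F) : Matrix (Fin 2) (Fin 2) F).det = 1 := by
        rw [← det_mul, Units.mul_inv, det_one]
      rw [hc, hwd] at h1
      rw [← mul_inv, eq_inv_of_mul_eq_one_left h1])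
    exact hnw _ hm

end CfsgLib.FGS74.ThreeOrders
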