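import Cfsg.Agent.FGS74.ThreeOrders.Norm
import Cfsg.Agent.Coprime.Action
import Cfsg.Agent.Solvable.Frattini

/-!
# Mixed element orders from Frobenius actions

If `K ⟨x⟩` acts on a `q`-group `U` with `K` of coprime order acting nontrivially and `x` of prime
order `p` fixed point free on `K`, some element has order `q * p`.
-/

set_option autoImplicit false
set_option linter.style.haveILetI false

namespace CfsgLib.FGS74.ThreeOrders

open Subgroup
open scoped commutatorElement

universe u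

variable {G : Type u} [Group G] [Finite G]

/-- The elementary abelian case. -/
theorem exists_mixed_elementary {q p : ℕ} (hq : q.Prime) (hp : p.Prime) {V K : Subgroup G} {x : G}
    (hc : ∀ a ∈ V, ∀ b ∈ V, Commute a b) (hexp : ∀ v ∈ V, v ^ q = 1)
    (hKV : K ≤ normalizer (V : Set G)) (hxV : x ∈ normalizer (V : Set G))
    (hxK : x ∈ normalizer (K : Set G)) (hx : orderOf x = p)
    (hfpf : ∀ i, 0 < i → i < p → ∀ k ∈ K, Commute k (x ^ i) → k = 1)
    (hcop : (Nat.card K).Coprime (Nat.card V)) (hne : ¬ K ≤ centralizer (V : Set G)) :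
    ∃ g : G, orderOf g = q * p := by
  classical
  haveI := Fact.mk hq
  haveI := Fintype.ofFinite K
  letI : CommGroup V :=
    { (inferInstance : Group V) with mul_comm := fun a b => Subtype.ext (hc a a.2 b b.2).eq }
  let cj : ↥(normalizer (V : Set G)) → V →* V := fun g =>
    { toFun := fun v => ⟨g * v * (g : G)⁻¹, conj_mem_of_le_normalizer g.2 v.2⟩
      map_one' := Subtype.ext (by simp)
      map_mul' := fun a b => Subtype.ext (by simp [mul_assoc]) }
  let π : V →* V := ∏ k : K, cj ⟨k, hKV k.2⟩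
  have hπ : ∀ v : V, π v = ∏ k : K, cj ⟨k, hKV k.2⟩ v := fun v => MonoidHom.finsetProd_apply _ _ _
  set W := π.ker.map V.subtype with hW
  have hWV : W ≤ V := map_subtype_le _
  have hinv : ∀ g ∈ normalizer (V : Set G), g ∈ normalizer (K : Set G) → g ∈ normalizer (W : Set G) := by
    intro g hgV hg
    refine mem_normalizer_fintype ?_
    rintro _ ⟨v, hv, rfl⟩
    refine ⟨cj ⟨g, hgV⟩ v, ?_, rfl⟩
    rw [SetLike.mem_coe, MonoidHom.mem_ker, hπ]
    rw [SetLike.mem_coe, MonoidHom.mem_ker, hπ] at hv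
    have hcg := congrArg (cj ⟨g, hgV⟩) hv
    rw [map_one, map_prod] at hcg
    rw [← hcg]
    let σ : K ≃ K :=
      { toFun := fun k => ⟨g⁻¹ * k * g, by
          have := conj_mem_of_le_normalizer (inv_mem hg) k.2; rwa [inv_inv] at this⟩
        invFun := fun k => ⟨g * k * g⁻¹, conj_mem_of_le_normalizer hg k.2⟩
        left_inv := fun k => Subtype.ext (by show g * (g⁻¹ * k * g) * g⁻¹ = k; group)
        right_inv := fun k => Subtype.ext (by show g⁻¹ * (g * k * g⁻¹) * g = k; group) }
    refine Fintype.prod_equiv σ _ _ fun k => Subtype.ext ?_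
    show (k : G) * (g * v * g⁻¹) * (k : G)⁻¹ = g * (g⁻¹ * k * g * v * (g⁻¹ * k * g)⁻¹) * g⁻¹
    group
  have hKW : K ≤ normalizer (W : Set G) := fun k hk => hinv k (hKV hk) (le_normalizer hk)
  have hxW : x ∈ normalizer (W : Set G) := hinv x hxV hxK
  have hcK : ∀ w ∈ W, (∀ k ∈ K, Commute k w) → w = 1 := by
    rintro _ ⟨v, hv, rfl⟩ hcom
    rw [SetLike.mem_coe, MonoidHom.mem_ker, hπ] at hv
    have : ∀ k : K, cj ⟨k, hKV k.2⟩ v = v := fun k => Subtype.ext (by
      show (k : G) * v * (k : G)⁻¹ = v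
      rw [(show Commute (k : G) v from hcom k k.2).eq, mul_inv_cancel_right])
    simp only [this, Finset.prod_const, Finset.card_univ, ← Nat.card_eq_fintype_card] at hv
    have hd := Nat.dvd_gcd (orderOf_dvd_of_pow_eq_one hv) (orderOf_dvd_natCard v)
    rw [hcop.gcd_eq_one, Nat.dvd_one, orderOf_eq_one_iff] at hd
    simp [hd]
  have hWne : W ≠ ⊥ := by
    obtain ⟨k, hk, hkC⟩ := SetLike.not_le_iff_exists.1 hne
    obtain ⟨v, hv, hkv⟩ : ∃ v ∈ V, k * v * k⁻¹ ≠ v := by
      by_contra! hh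
      exact hkC (mem_centralizer_iff.2 fun v hv => (mul_inv_eq_iff_eq_mul.1 (hh v hv)).symm)
    intro hbot
    let kV : ↥(normalizer (V : Set G)) := ⟨k, hKV hk⟩
    have hmem : (cj kV ⟨v, hv⟩ * ⟨v, hv⟩⁻¹ : V) ∈ π.ker := by
      rw [MonoidHom.mem_ker, map_mul, map_inv, mul_inv_eq_one, hπ, hπ]
      refine Fintype.prod_equiv (Equiv.mulRight (⟨k, hk⟩ : K)) _ _ fun j => Subtype.ext ?_
      show (j : G) * (k * v * k⁻¹) * (j : G)⁻¹ = (j * k : G) * v * ((j * k : G))⁻¹
      group
    have h1 : ((cj kV ⟨v, hv⟩ * ⟨v, hv⟩⁻¹ : V) : G) ∈ W := mem_map_of_mem _ hmem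
    rw [hbot, mem_bot] at h1
    exact hkv (mul_inv_eq_one.1 h1)
  obtain ⟨w, hw, hwx⟩ := exists_pow_mul_ne (V := W) hp.pos
    (fun a ha b hb => hc a (hWV ha) b (hWV hb)) hKW hxW hxK hfpf hcK
    (hcop.coprime_dvd_right (card_dvd_of_le hWV)) hWne
  rw [show x ^ p = 1 from hx ▸ pow_orderOf_eq_one x] at hwx
  refine ⟨w * x, ?_⟩
  -- work in the normaliser of `V`
  let N := normalizer (V : Set G)
  haveI : (V.subgroupOf N).Normal := Subgroup.normal_in_normalizer
  let x' : N := ⟨x, hxV⟩
  let w' : N := ⟨w, le_normalizer (hWV hw)⟩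
  have hx' : orderOf x' = p := by rw [orderOf_mk, hx]
  have hw'V : w' ∈ V.subgroupOf N := hWV hw
  have hexp' : ∀ v ∈ V.subgroupOf N, v ^ q = 1 := fun v hv => Subtype.ext (by
    rw [SubmonoidClass.coe_pow, OneMemClass.coe_one]; exact hexp v hv)
  have hne' : (w' * x') ^ p ≠ 1 := fun e => hwx (congrArg Subtype.val e)
  suffices orderOf (w' * x') = q * p by rwa [← orderOf_coe] at this
  have hmod : ((w' * x' : N) : N ⧸ V.subgroupOf N) = (x' : N ⧸ V.subgroupOf N) := by
    rw [QuotientGroup.mk_mul, (QuotientGroup.eq_one_iff w').2 hw'V, one_mul]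
  have hxp : (x' : N ⧸ V.subgroupOf N) ^ p = 1 := by
    rw [← QuotientGroup.mk_pow, ← hx', pow_orderOf_eq_one, QuotientGroup.mk_one]
  have hz : (w' * x') ^ p ∈ V.subgroupOf N := by
    rw [← QuotientGroup.eq_one_iff, QuotientGroup.mk_pow, hmod, hxp]
  have hd : orderOf (w' * x') ∣ q * p :=
    orderOf_dvd_of_pow_eq_one (by rw [mul_comm, pow_mul, hexp' _ hz])
  obtain ⟨a, b, ha, hb, hab⟩ := Nat.dvd_mul.1 hd
  rcases (Nat.dvd_prime hq).1 ha with ha' | ha' <;> subst a
  · exfalso
    rw [one_mul] at hab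
    exact hne' (orderOf_dvd_iff_pow_eq_one.1 (hab ▸ hb))
  · rcases (Nat.dvd_prime hp).1 hb with hb' | hb' <;> subst b
    · exfalso
      rw [mul_one] at hab
      rcases eq_or_ne q p with rfl | hqp
      · exact hne' (hab ▸ pow_orderOf_eq_one _)
      · have h1 : (x' : N ⧸ V.subgroupOf N) ^ q = 1 := by
          rw [← hmod, ← QuotientGroup.mk_pow, hab, pow_orderOf_eq_one, QuotientGroup.mk_one]
        have h2 := pow_gcd_eq_one.2 ⟨h1, hxp⟩
        rw [((Nat.coprime_primes hq hp).2 hqp).gcd_eq_one, pow_one] at h2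
        have := hexp' _ ((QuotientGroup.eq_one_iff _).1 h2)
        rw [← orderOf_dvd_iff_pow_eq_one, hx'] at this
        exact hqp ((Nat.prime_dvd_prime_iff_eq hp hq).1 this).symm
    · rw [← hab]

set_option maxHeartbeats 800000 in
/-- A group acting nontrivially on a `q`-group gives an element of order `q * p`. -/
theorem exists_mixed {q p : ℕ} (hq : q.Prime) (hp : p.Prime) {U K : Subgroup G} {x : G}
    (hU : IsPGroup q U) (hKU : K ≤ normalizer (U : Set G)) (hxU : x ∈ normalizer (U : Set G))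
    (hxK : x ∈ normalizer (K : Set G)) (hx : orderOf x = p)
    (hfpf : ∀ i, 0 < i → i < p → ∀ k ∈ K, Commute k (x ^ i) → k = 1)
    (hcop : (Nat.card K).Coprime (Nat.card U)) (hne : ¬ K ≤ centralizer (U : Set G)) :
    ∃ g : G, orderOf g = q * p := by
  classical
  haveI := Fact.mk hq
  set N := normalizer (U : Set G) with hN
  set U' := U.subgroupOf N with hU'
  haveI : U'.Normal := Subgroup.normal_in_normalizer
  haveI : ((frattini ↥U').map U'.subtype).Normal := ConjAct.normal_of_characteristic_of_normal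
  set Φ := (frattini ↥U').map U'.subtype with hΦ
  have hUU' : U'.map N.subtype = U := by
    rw [hU', subgroupOf_map_subtype, inf_eq_left.2 le_normalizer]
  have hU'p : IsPGroup q U' := hU.comap_subtype
  let f := QuotientGroup.mk' Φ
  set K₁ := K.subgroupOf N with hK₁
  have hcK : Nat.card K₁ = Nat.card K := Nat.card_congr (subgroupOfEquivOfLe hKU).toEquiv
  have hcU : Nat.card U' = Nat.card U := Nat.card_congr (subgroupOfEquivOfLe le_normalizer).toEquiv
  -- `K` moves `U / Φ(U)`
  have hmove : ¬ K₁.map f ≤ centralizer ((U'.map f : Subgroup (N ⧸ Φ)) : Set (N ⧸ Φ)) := by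
    intro hle
    refine hne fun k hk => ?_
    have hc : K₁ ≤ centralizer (U' : Set N) := by
      refine Coprime.le_centralizer_of_commutator_le_frattini le_normalizer_of_normal ?_ ?_
      · rw [hcK]
        exact hcop.coprime_dvd_right (hcU ▸ card_subgroup_dvd_card _)
      · rw [commutator_le]
        intro u hu a ha
        rw [← hΦ, ← QuotientGroup.eq_one_iff, ← QuotientGroup.mk'_apply, map_commutatorElement,
          commutatorElement_eq_one_iff_mul_comm]
        exact mem_centralizer_iff.1 (hle (mem_map_of_mem f ha)) _ (mem_map_of_mem f hu)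
    rw [mem_centralizer_iff]
    intro u hu
    exact congrArg Subtype.val
      (mem_centralizer_iff.1 (hc (show (⟨k, hKU hk⟩ : N) ∈ K₁ from hk)) ⟨u, le_normalizer hu⟩ hu)
  let x₁ : N := ⟨x, hxU⟩
  have hx₁ : orderOf x₁ = p := by rw [orderOf_mk, hx]
  haveI := Fact.mk hp
  -- the image of `x` has order `p`
  have hxo : orderOf (f x₁) = p := by
    rcases (Nat.dvd_prime hp).1 (hx₁ ▸ orderOf_map_dvd f x₁) with h1 | h1
    · exfalso
      refine hmove (le_trans ?_ bot_le)
      rw [le_bot_iff, Subgroup.map_eq_bot_iff, QuotientGroup.ker_mk']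
      intro k hk
      have hx0 : x₁ ∈ Φ := (QuotientGroup.eq_one_iff _).1 (orderOf_eq_one_iff.1 h1)
      have hxU' : x ∈ U := map_subtype_le (H := U') _ hx0
      -- then `x` and `K` normalise each other
      have hcm : ⁅(k : G), x⁆ ∈ U ⊓ K := mem_inf.2 ⟨by
          rw [commutatorElement_def]
          exact mul_mem (conj_mem_of_le_normalizer (hKU hk) hxU') (inv_mem hxU'), by
          rw [commutatorElement_def, mul_assoc, mul_assoc, ← mul_assoc x]
          exact mul_mem hk (conj_mem_of_le_normalizer hxK (inv_mem hk))⟩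
      rw [Coprime.inf_eq_bot_of_coprime hcop.symm, mem_bot,
        commutatorElement_eq_one_iff_mul_comm] at hcm
      have := hfpf 1 one_pos hp.one_lt k hk (by rw [pow_one]; exact hcm)
      rw [show k = 1 from Subtype.ext this]
      exact one_mem _
    · exact h1
  -- fixed point free modulo `Φ`
  have hker : ∀ k ∈ K₁, f k = 1 → k = 1 := by
    intro k hk h1
    have hkU : (k : G) ∈ U := map_subtype_le (H := U') _ ((QuotientGroup.eq_one_iff k).1 h1)
    have hm : (k : G) ∈ U ⊓ K := mem_inf.2 ⟨hkU, hk⟩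
    rw [Coprime.inf_eq_bot_of_coprime hcop.symm, mem_bot] at hm
    exact Subtype.ext hm
  have hxK₁ : x₁ ∈ normalizer (K₁ : Set N) := by
    rw [mem_normalizer_iff]
    exact fun k => mem_normalizer_iff.1 hxK (k : G)
  have hfpf' : ∀ i, 0 < i → i < p → ∀ k ∈ K₁.map f, Commute k (f x₁ ^ i) → k = 1 := by
    rintro i hi hip _ ⟨k, hk, rfl⟩ hcm
    have hc1 : ⁅k, x₁ ^ i⁆ ∈ K₁ := by
      rw [commutatorElement_def, mul_assoc, mul_assoc, ← mul_assoc (x₁ ^ i)]
      exact mul_mem hk (conj_mem_of_le_normalizer (pow_mem hxK₁ i) (inv_mem hk))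
    have hf : f ⁅k, x₁ ^ i⁆ = 1 := by
      rw [map_commutatorElement, map_pow, commutatorElement_eq_one_iff_mul_comm]; exact hcm
    have h2 := commutatorElement_eq_one_iff_mul_comm.1 (hker _ hc1 hf)
    have := hfpf i hi hip k hk (show Commute (k : G) (x ^ i) from by
      exact congrArg Subtype.val h2)
    rw [show k = 1 from Subtype.ext this, map_one]
  obtain ⟨g, hg⟩ := exists_mixed_elementary hq hp (V := U'.map f) (K := K₁.map f) (x := f x₁)
    (by
      rintro _ ⟨a, ha, rfl⟩ _ ⟨b, hb, rfl⟩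
      refine commutatorElement_eq_one_iff_mul_comm.1 ?_
      rw [← map_commutatorElement]
      exact (QuotientGroup.eq_one_iff _).2 ⟨⁅(⟨a, ha⟩ : U'), (⟨b, hb⟩ : U')⁆,
        Solvable.commutator_le_frattini hU'p
          (commutator_mem_commutator (mem_top (⟨a, ha⟩ : U')) (mem_top (⟨b, hb⟩ : U'))), rfl⟩)
    (by
      rintro _ ⟨a, ha, rfl⟩
      rw [← map_pow]
      exact (QuotientGroup.eq_one_iff _).2 ⟨_, Solvable.pow_mem_frattini hU'p ⟨a, ha⟩, rfl⟩)
    (((le_normalizer_of_normal : K₁ ≤ normalizer (U' : Set N))).trans_eq rfl |>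
      fun h => (map_mono h).trans (le_normalizer_map f))
    (le_normalizer_map f (mem_map_of_mem f (le_normalizer_of_normal (H := U') (mem_top x₁))))
    (le_normalizer_map f (mem_map_of_mem f hxK₁)) hxo hfpf'
    ((hcop.coprime_dvd_left (hcK ▸ card_map_dvd K₁ f)).coprime_dvd_right (hcU ▸ card_map_dvd U' f))
    hmove
  obtain ⟨g, rfl⟩ := QuotientGroup.mk'_surjective Φ g
  refine ⟨((g ^ (orderOf g / orderOf (f g)) : N) : G), ?_⟩
  rw [orderOf_coe, orderOf_pow_orderOf_div (orderOf_pos g).ne' (orderOf_map_dvd f g), hg]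

end CfsgLib.FGS74.ThreeOrders
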