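import Cfsg.Agent.FGS74.ThreeOrders.Tools
import Cfsg.Agent.FGS74.ThreeOrders.Mixed

/-!
# No solvable normal subgroups when the Sylow two-subgroups are elementary abelian
-/

set_option autoImplicit false
set_option linter.style.haveILetI false

namespace CfsgLib.FGS74.ThreeOrders

open Subgroup
open scoped commutatorElement

universe u

variable {G : Type u} [Group G] [Finite G]

/-- Every element of two-power order squares to one. -/
def TwoElementary (G : Type u) [Group G] : Prop :=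
  ∀ g : G, ∀ k : ℕ, g ^ 2 ^ k = 1 → g * g = 1

omit [Finite G] in
theorem TwoElementary.subgroup (h : TwoElementary G) (H : Subgroup G) : TwoElementary H :=
  fun g k hk => Subtype.ext (h g k (by rw [← SubmonoidClass.coe_pow, hk, OneMemClass.coe_one]))

omit [Finite G] in
theorem TwoElementary.sq_of_mem (h : TwoElementary G) {T : Subgroup G} (hT : IsPGroup 2 T) {t : G}
    (ht : t ∈ T) : t * t = 1 := by
  obtain ⟨k, hk⟩ := hT ⟨t, ht⟩
  exact h t k (congrArg Subtype.val hk)

omit [Finite G] in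
theorem TwoElementary.commute_of_mem (h : TwoElementary G) {T : Subgroup G} (hT : IsPGroup 2 T)
    {a b : G} (ha : a ∈ T) (hb : b ∈ T) : Commute a b := by
  have ha' : a⁻¹ = a := inv_eq_of_mul_eq_one_right (h.sq_of_mem hT ha)
  have hb' : b⁻¹ = b := inv_eq_of_mul_eq_one_right (h.sq_of_mem hT hb)
  have hab : (a * b)⁻¹ = a * b := inv_eq_of_mul_eq_one_right (h.sq_of_mem hT (mul_mem ha hb))
  rw [mul_inv_rev, ha', hb'] at hab
  exact hab.symm

omit [Finite G] in
/-- A two-element normalising a Sylow two-subgroup lies in it. -/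
theorem mem_sylow_of_pow_eq_one (T : Sylow 2 G) {y : G} {k : ℕ}
    (hyn : y ∈ normalizer ((T : Subgroup G) : Set G)) (hy : y ^ 2 ^ k = 1) :
    y ∈ (T : Subgroup G) := by
  have h1 : IsPGroup 2 (zpowers y) := by
    intro z
    obtain ⟨i, hi⟩ := mem_zpowers_iff.1 z.2
    exact ⟨k, Subtype.ext (by
      rw [SubmonoidClass.coe_pow, ← hi, ← zpow_natCast, ← zpow_mul, mul_comm, zpow_mul, zpow_natCast,
        hy, one_zpow, OneMemClass.coe_one])⟩
  exact (T.3 (T.2.to_sup_of_normal_left' h1 (zpowers_le.2 hyn)) le_sup_left).le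
    (mem_sup_right (mem_zpowers y))

/-- If no element of odd order normalising a Sylow two-subgroup `T` moves it modulo a normal subgroup
`C`, then `T ≤ C`, provided the group is perfect. -/
theorem exists_moving (h2 : TwoElementary G) (hperf : commutator G = ⊤) (T : Sylow 2 G)
    (C : Subgroup G) [C.Normal] (hTC : ¬ (T : Subgroup G) ≤ C) :
    ∃ n ∈ normalizer ((T : Subgroup G) : Set G), ∃ t ∈ (T : Subgroup G), ⁅t, n⁆ ∉ C := by
  by_contra! hall
  haveI := Fact.mk Nat.prime_two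
  let f := QuotientGroup.mk' C
  let T' : Sylow 2 (G ⧸ C) := T.mapSurjective (QuotientGroup.mk'_surjective C)
  have hT' : (T' : Subgroup (G ⧸ C)) = (T : Subgroup G).map f := Sylow.coe_mapSurjective ..
  have hle : normalizer ((T' : Subgroup (G ⧸ C)) : Set (G ⧸ C)) ≤
      centralizer ((T' : Subgroup (G ⧸ C)) : Set (G ⧸ C)) := by
    intro y hy
    obtain ⟨g, rfl⟩ := QuotientGroup.mk'_surjective C y
    -- move `g` into the normaliser of `T` inside `C T`
    set U := (T : Subgroup G) ⊔ C with hU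
    have hgU : g ∈ normalizer (U : Set G) := by
      have hc : U = ((T : Subgroup G).map f).comap f := by
        rw [comap_map_eq, QuotientGroup.ker_mk', hU]
      rw [mem_normalizer_iff]
      intro x
      rw [hc, mem_comap, mem_comap, map_mul, map_mul, map_inv, ← hT']
      exact mem_normalizer_iff.1 hy (f x)
    let g' : normalizer (U : Set G) := ⟨g, hgU⟩
    haveI : (U.subgroupOf (normalizer (U : Set G))).Normal := Subgroup.normal_in_normalizer
    have hTU : (T : Subgroup G) ≤ normalizer (U : Set G) := le_sup_left.trans le_normalizer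
    let S : Sylow 2 ↥(U.subgroupOf (normalizer (U : Set G))) :=
      (T.subtype hTU).subtype (fun x hx => (le_sup_left : (T : Subgroup G) ≤ U) hx)
    have hgen := Sylow.normalizer_sup_eq_top S
    have hmem := (hgen ▸ mem_top g' : g' ∈ _)
    obtain ⟨n, hn, u, hu, hnu⟩ := mem_sup_of_normal_right.1 hmem
    have hSmap : ((S : Subgroup _).map (U.subgroupOf (normalizer (U : Set G))).subtype).map
        (normalizer (U : Set G)).subtype = (T : Subgroup G) := by
      have hS : (S : Subgroup _) =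
          ((T : Subgroup G).subgroupOf (normalizer (U : Set G))).subgroupOf
            (U.subgroupOf (normalizer (U : Set G))) := rfl
      rw [hS, subgroupOf_map_subtype, inf_of_le_left, subgroupOf_map_subtype, inf_eq_left.2 hTU]
      exact fun x hx => (le_sup_left : (T : Subgroup G) ≤ U) hx
    have hnT : (n : G) ∈ normalizer ((T : Subgroup G) : Set G) := by
      rw [← hSmap]
      exact le_normalizer_map (normalizer (U : Set G)).subtype (mem_map_of_mem _ hn)
    have hcen : f n ∈ centralizer ((T' : Subgroup (G ⧸ C)) : Set (G ⧸ C)) := by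
      rw [hT', mem_centralizer_iff]
      rintro _ ⟨t, ht, rfl⟩
      have := (QuotientGroup.eq_one_iff _).2 (hall n hnT t ht)
      rw [← QuotientGroup.mk'_apply, map_commutatorElement,
        commutatorElement_eq_one_iff_mul_comm] at this
      exact this
    have hfu : f u ∈ centralizer ((T' : Subgroup (G ⧸ C)) : Set (G ⧸ C)) := by
      have hu' : (u : G) ∈ (T : Subgroup G) ⊔ C := hu
      obtain ⟨t, ht, c, hc, htc⟩ := mem_sup_of_normal_right.1 hu'
      rw [← htc, map_mul, show f c = 1 from (QuotientGroup.eq_one_iff c).2 hc, mul_one, hT',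
        mem_centralizer_iff]
      rintro _ ⟨t', ht', rfl⟩
      exact ((h2.commute_of_mem T.2 ht' ht).map f).eq
    have : g = (n : G) * u := (congrArg Subtype.val hnu).symm
    rw [this, map_mul]
    exact mul_mem hcen hfu
  have hcompl := MonoidHom.ker_transferSylow_isComplement' T' hle
  have hker : (MonoidHom.transferSylow T' hle).ker = ⊤ := by
    letI : CommGroup ↥(T' : Subgroup (G ⧸ C)) :=
      { (inferInstance : Group ↥(T' : Subgroup (G ⧸ C))) with
        mul_comm := fun a b => Subtype.ext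
          (mem_centralizer_iff.1 (hle (le_normalizer b.2)) a a.2) }
    refine eq_top_iff.2 fun y _ => ?_
    obtain ⟨g, rfl⟩ := QuotientGroup.mk'_surjective C y
    have hg : g ∈ ((MonoidHom.transferSylow T' hle).comp (QuotientGroup.mk' C)).ker :=
      Abelianization.commutator_subset_ker _ (hperf ▸ mem_top g)
    exact hg
  rw [hker, isComplement'_top_left, hT', Subgroup.map_eq_bot_iff, QuotientGroup.ker_mk'] at hcompl
  exact hTC hcompl

/-- An element of odd prime order moving an abelian two-group gives an invariant fixed-point-free part. -/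
theorem exists_mover
    (hno : ∀ s : ℕ, s.Prime → s ≠ 2 → ∀ g y : G, s * s ∣ orderOf g → orderOf y = 2 →
      ¬ Commute (g ^ s) y) (h2 : TwoElementary G) (hperf : commutator G = ⊤)
    (T : Sylow 2 G) (C : Subgroup G) [C.Normal] (hTC : ¬ (T : Subgroup G) ≤ C) :
    ∃ (x : G) (s : ℕ) (K : Subgroup G), s.Prime ∧ s ≠ 2 ∧ orderOf x = s ∧ K ≤ (T : Subgroup G) ∧
      x ∈ normalizer (K : Set G) ∧ ¬ K ≤ C ∧
      (∀ i, 0 < i → i < s → ∀ k ∈ K, Commute k (x ^ i) → k = 1) := by
  haveI := Fact.mk Nat.prime_two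
  obtain ⟨n, hn, t, ht, hnt⟩ := exists_moving h2 hperf T C hTC
  have hcomm : ∀ a ∈ (T : Subgroup G), ∀ b ∈ (T : Subgroup G), Commute a b :=
    fun a ha b hb => h2.commute_of_mem T.2 ha hb
  -- the elements acting trivially modulo `C`
  let A : Subgroup ↥(normalizer ((T : Subgroup G) : Set G)) :=
    (centralizer (((T : Subgroup G).map (QuotientGroup.mk' C) : Subgroup (G ⧸ C)) : Set (G ⧸ C))).comap
      ((QuotientGroup.mk' C).comp (normalizer ((T : Subgroup G) : Set G)).subtype)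
  have hA : ∀ y : ↥(normalizer ((T : Subgroup G) : Set G)), y ∈ A ↔ ∀ t ∈ (T : Subgroup G), ⁅t, (y : G)⁆ ∈ C := by
    intro y
    simp only [A, mem_comap, mem_centralizer_iff, SetLike.mem_coe, mem_map, MonoidHom.coe_comp,
      Function.comp_apply, Subgroup.subtype_apply, forall_exists_index, and_imp,
      forall_apply_eq_imp_iff₂]
    refine forall₂_congr fun t _ => ?_
    rw [← QuotientGroup.eq_one_iff, ← QuotientGroup.mk'_apply, map_commutatorElement,
      commutatorElement_eq_one_iff_mul_comm]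
  have hAne : A ≠ ⊤ := fun e => hnt ((hA ⟨n, hn⟩).1 (e ▸ mem_top _) t ht)
  -- a prime power element outside `A`
  obtain ⟨s, hs, x, a, hxa, hxA⟩ : ∃ s : ℕ, s.Prime ∧ ∃ (x : ↥(normalizer ((T : Subgroup G) : Set G))) (a : ℕ),
      x ^ s ^ a = 1 ∧ x ∉ A := by
    by_contra! hall
    refine hAne (eq_top_iff.2 fun y _ => ?_)
    induction' hm : orderOf y using Nat.strong_induction_on with m ih generalizing y
    rcases eq_or_ne m 1 with rfl | hm1
    · rw [orderOf_eq_one_iff.1 hm]; exact one_mem A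
    obtain ⟨p, hp, hpm⟩ := Nat.exists_prime_and_dvd hm1
    obtain ⟨e, m', hm', hmm⟩ :=
      Nat.exists_eq_pow_mul_and_not_dvd (hm ▸ (orderOf_pos y).ne') p hp.ne_one
    obtain ⟨u, v, huv⟩ : ∃ u v : ℤ, (m' : ℤ) * u + (p ^ e : ℕ) * v = 1 := by
      have hg : Nat.gcd m' (p ^ e) = 1 := ((hp.coprime_iff_not_dvd.2 hm').symm.pow_right e).gcd_eq_one
      exact ⟨Nat.gcdA m' (p ^ e), Nat.gcdB m' (p ^ e), by rw [← Nat.gcd_eq_gcd_ab, hg]; rfl⟩
    have h1 : y ^ m' ∈ A := hall p hp (y ^ m') e (by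
      rw [← pow_mul, mul_comm, ← hmm, ← hm, pow_orderOf_eq_one])
    have hlt : orderOf (y ^ p ^ e) < m := by
      have he : e ≠ 0 := by rintro rfl; rw [pow_zero, one_mul] at hmm; exact hm' (hmm ▸ hpm)
      have hd : p ^ e ∣ orderOf y := hm ▸ hmm ▸ dvd_mul_right _ _
      rw [orderOf_pow, Nat.gcd_eq_right hd, hm]
      exact Nat.div_lt_self (hm ▸ orderOf_pos y) (Nat.one_lt_pow he hp.one_lt)
    have h2 := ih _ hlt (y ^ p ^ e) (mem_top _) rfl
    rw [← zpow_one y, ← huv, zpow_add, zpow_mul, zpow_mul, zpow_natCast, zpow_natCast]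
    exact mul_mem (A.zpow_mem h1 u) (A.zpow_mem h2 v)
  -- replace `x` by a power so that `x ^ s` is in `A`
  obtain ⟨x, hxa, hxA, hxsA⟩ : ∃ x : ↥(normalizer ((T : Subgroup G) : Set G)),
      (∃ a, x ^ s ^ a = 1) ∧ x ∉ A ∧ x ^ s ∈ A := by
    induction a generalizing x with
    | zero => exact absurd (show x ∈ A by rw [pow_zero, pow_one] at hxa; rw [hxa]; exact one_mem A) hxA
    | succ a ih =>
      by_cases hx : x ^ s ∈ A
      · exact ⟨x, ⟨_, hxa⟩, hxA, hx⟩
      · exact ih (x ^ s) (by rw [← pow_mul, ← pow_succ', hxa]) hx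
  obtain ⟨a, hxa⟩ := hxa
  -- `s` is odd
  have hs2 : s ≠ 2 := by
    rintro rfl
    refine hxA ((hA x).2 fun t ht => ?_)
    rw [commutatorElement_eq_one_iff_mul_comm.2 (hcomm t ht x
      (mem_sylow_of_pow_eq_one T x.2 (k := a) (congrArg Subtype.val hxa))).eq]
    exact one_mem C
  have hodd : Odd (orderOf x) :=
    (hs.odd_of_ne_two hs2).pow.of_dvd_nat (orderOf_dvd_of_pow_eq_one hxa : orderOf x ∣ s ^ a)
  -- the elements fixed by `x ^ s`
  set y : G := (x : G) ^ s with hy
  have hyN : y ∈ normalizer ((T : Subgroup G) : Set G) := pow_mem x.2 s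
  let K₀ : Subgroup G := (T : Subgroup G) ⊓ centralizer ({y} : Set G)
  have hK₀ : ∃ t₀ ∈ K₀, ⁅t₀, (x : G)⁆ ∉ C := by
    obtain ⟨t, ht, htx⟩ : ∃ t ∈ (T : Subgroup G), ⁅t, (x : G)⁆ ∉ C := by
      by_contra! hh; exact hxA ((hA x).2 hh)
    set m := orderOf y with hm
    have hmodd : Odd m := by
      refine hodd.of_dvd_nat ?_
      rw [hm, hy, ← orderOf_coe]
      exact orderOf_pow_dvd s
    letI : CommGroup ↥(T : Subgroup G) :=
      { (inferInstance : Group ↥(T : Subgroup G)) with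
        mul_comm := fun a b => Subtype.ext (hcomm a a.2 b b.2).eq }
    let c : ℕ → ↥(T : Subgroup G) := fun i =>
      ⟨y ^ i * t * (y ^ i)⁻¹, conj_mem_of_le_normalizer (pow_mem hyN i) ht⟩
    let φ : ↥(T : Subgroup G) →* ↥(T : Subgroup G) :=
      { toFun := fun z => ⟨y * z * y⁻¹, conj_mem_of_le_normalizer hyN z.2⟩
        map_one' := Subtype.ext (by simp)
        map_mul' := fun a b => Subtype.ext (by simp [mul_assoc]) }
    set P := ∏ i ∈ Finset.range m, c i with hP
    have hfix : φ P = P := by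
      rw [hP, map_prod]
      refine Eq.trans (b := ∏ i ∈ Finset.range m, c (i + 1)) ?_ ?_
      · exact Finset.prod_congr rfl fun i _ => Subtype.ext (by
          show y * (y ^ i * t * (y ^ i)⁻¹) * y⁻¹ = y ^ (i + 1) * t * (y ^ (i + 1))⁻¹
          group)
      · have h0 : c m = c 0 := Subtype.ext (by
          show y ^ m * t * (y ^ m)⁻¹ = y ^ 0 * t * (y ^ 0)⁻¹
          rw [hm, pow_orderOf_eq_one, pow_zero])
        have := (Finset.prod_range_succ' c m).symm.trans (Finset.prod_range_succ c m)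
        rw [h0] at this
        exact mul_right_cancel this
    refine ⟨P, mem_inf.2 ⟨P.2, ?_⟩, ?_⟩
    · have h1 : y * (P : G) * y⁻¹ = P := congrArg Subtype.val hfix
      rw [mem_centralizer_singleton_iff]
      exact (mul_inv_eq_iff_eq_mul.1 h1).symm
    · -- `P ≡ t ^ m ≡ t` modulo `C`
      have hmk : ((P : G) : G ⧸ C) = (t : G ⧸ C) := by
        have hi : ∀ i : ℕ, ((c i : G) : G ⧸ C) = (t : G ⧸ C) := by
          intro i
          have hyA : (⟨y, hyN⟩ : ↥(normalizer ((T : Subgroup G) : Set G))) ∈ A := by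
            convert hxsA using 1
            exact Subtype.ext (hy.trans (SubmonoidClass.coe_pow x s).symm)
          have := (hA _).1 (A.pow_mem hyA i) t ht
          rw [SubmonoidClass.coe_pow, ← QuotientGroup.eq_one_iff, ← QuotientGroup.mk'_apply,
            map_commutatorElement, commutatorElement_eq_one_iff_mul_comm] at this
          show QuotientGroup.mk' C (y ^ i * t * (y ^ i)⁻¹) = _
          rw [map_mul, map_mul, map_inv, ← this, mul_inv_cancel_right]
          rfl
        let q₀ := QuotientGroup.mk' (C.subgroupOf (T : Subgroup G))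
        have hq : ∀ i, q₀ (c i) = q₀ ⟨t, ht⟩ := fun i => QuotientGroup.eq.2 (mem_subgroupOf.2 (by
          have := QuotientGroup.eq.1 (hi i)
          simpa using this))
        have h1 : q₀ P = q₀ (⟨t, ht⟩ ^ m) := by
          rw [hP, map_prod, Finset.prod_congr rfl fun i _ => hq i, Finset.prod_const, Finset.card_range,
            map_pow]
        have h2t : (⟨t, ht⟩ : ↥(T : Subgroup G)) ^ m = ⟨t, ht⟩ := by
          obtain ⟨j, hj⟩ := hmodd
          have : (⟨t, ht⟩ : ↥(T : Subgroup G)) ^ 2 = 1 := Subtype.ext (by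
            rw [SubmonoidClass.coe_pow, sq]; exact h2.sq_of_mem T.2 ht)
          rw [hj, pow_succ, pow_mul, this, one_pow, one_mul]
        rw [h2t] at h1
        exact QuotientGroup.eq.2 (by simpa using mem_subgroupOf.1 (QuotientGroup.eq.1 h1))
      rw [← QuotientGroup.eq_one_iff, ← QuotientGroup.mk'_apply, map_commutatorElement,
        QuotientGroup.mk'_apply, hmk, ← QuotientGroup.mk'_apply, ← map_commutatorElement,
        QuotientGroup.mk'_apply, QuotientGroup.eq_one_iff]
      exact htx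
  obtain ⟨t₀, ht₀, ht₀x⟩ := hK₀
  have hK₀n : (x : G) ∈ normalizer (K₀ : Set G) := by
    refine mem_normalizer_fintype fun z hz => mem_inf.2 ⟨conj_mem_of_le_normalizer x.2 (mem_inf.1 hz).1, ?_⟩
    rw [mem_centralizer_singleton_iff]
    have hzc : z * y = y * z := mem_centralizer_singleton_iff.1 (mem_inf.1 hz).2
    have hxy : Commute (x : G) y := (Commute.refl (x : G)).pow_right s
    calc (x : G) * z * (x : G)⁻¹ * y = x * z * ((x : G)⁻¹ * y) := by group
      _ = x * (z * y) * (x : G)⁻¹ := by rw [hxy.inv_left.eq]; group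
      _ = x * y * z * (x : G)⁻¹ := by rw [hzc]; group
      _ = y * ((x : G) * z * (x : G)⁻¹) := by rw [hxy.eq]; group
  -- the commutators
  have hK₀T : ∀ z ∈ K₀, z ∈ (T : Subgroup G) := fun z hz => (mem_inf.1 hz).1
  have hcomm' : ∀ z ∈ K₀, ⁅z, (x : G)⁆ ∈ K₀ := fun z hz => by
    rw [commutatorElement_def, mul_assoc, mul_assoc, ← mul_assoc (x : G)]
    exact mul_mem hz (conj_mem_of_le_normalizer hK₀n (inv_mem hz))
  have hhom : ∀ a ∈ K₀, ∀ b ∈ K₀, ⁅a * b, (x : G)⁆ = ⁅a, (x : G)⁆ * ⁅b, (x : G)⁆ := by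
    intro a ha b hb
    have h1 := hcomm' b hb
    calc ⁅a * b, (x : G)⁆ = (a * ⁅b, (x : G)⁆) * ((x : G) * a⁻¹ * (x : G)⁻¹) := by
          simp only [commutatorElement_def]; group
      _ = (⁅b, (x : G)⁆ * a) * ((x : G) * a⁻¹ * (x : G)⁻¹) := by
          rw [(hcomm a (hK₀T a ha) _ (hK₀T _ h1)).eq]
      _ = ⁅b, (x : G)⁆ * ⁅a, (x : G)⁆ := by simp only [commutatorElement_def]; group
      _ = ⁅a, (x : G)⁆ * ⁅b, (x : G)⁆ :=
          (hcomm _ (hK₀T _ h1) _ (hK₀T _ (hcomm' a ha))).eq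
  let ψ : K₀ →* G :=
    { toFun := fun z => ⁅(z : G), (x : G)⁆
      map_one' := by simp
      map_mul' := fun a b => hhom a a.2 b b.2 }
  have hKK : ψ.range ≤ K₀ := by rintro _ ⟨z, rfl⟩; exact hcomm' z z.2
  have hKT : ψ.range ≤ (T : Subgroup G) := hKK.trans inf_le_left
  have hKx : (x : G) ∈ normalizer (ψ.range : Set G) := by
    refine mem_normalizer_fintype ?_
    rintro _ ⟨z, rfl⟩
    refine ⟨⟨_, conj_mem_of_le_normalizer hK₀n z.2⟩, ?_⟩
    show ⁅(x : G) * z * (x : G)⁻¹, (x : G)⁆ = x * ⁅(z : G), (x : G)⁆ * (x : G)⁻¹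
    simp only [commutatorElement_def]; group
  have hKC : ¬ ψ.range ≤ C := fun hle => ht₀x (hle ⟨⟨t₀, ht₀⟩, rfl⟩)
  have hk1 : ∀ k ∈ ψ.range, Commute k y := fun k hk => mem_centralizer_singleton_iff.1 (mem_inf.1 (hKK hk)).2
  have hfx : ∀ k ∈ ψ.range, Commute k (x : G) → k = 1 := by
    rintro _ ⟨z, rfl⟩ hk
    replace hk : Commute ⁅(z : G), (x : G)⁆ (x : G) := hk
    have hz : Commute (z : G) y := mem_centralizer_singleton_iff.1 (mem_inf.1 z.2).2
    have hpow : ∀ i : ℕ, ⁅(z : G), (x : G) ^ i⁆ = ⁅(z : G), (x : G)⁆ ^ i := by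
      intro i
      induction i with
      | zero => simp
      | succ i ih =>
        have h3 : Commute (⁅(z : G), (x : G)⁆) ((x : G) ^ i) := hk.pow_right i
        have : ⁅(z : G), (x : G) ^ (i + 1)⁆ =
            ⁅(z : G), (x : G) ^ i⁆ * ((x : G) ^ i * ⁅(z : G), (x : G)⁆ * ((x : G) ^ i)⁻¹) := by
          simp only [commutatorElement_def]; group
        rw [this, ih, ← h3.eq, mul_inv_cancel_right, pow_succ]
    have h1 := hpow s
    rw [commutatorElement_eq_one_iff_mul_comm.2 hz.eq] at h1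
    have h2' : ψ z * ψ z = 1 := h2.sq_of_mem T.2 (hKT ⟨z, rfl⟩)
    obtain ⟨j, hj⟩ := hs.odd_of_ne_two hs2
    rw [hj, pow_succ, pow_mul, sq, show ⁅(z : G), (x : G)⁆ * ⁅(z : G), (x : G)⁆ = 1 from h2', one_pow,
      one_mul] at h1
    exact h1.symm
  obtain ⟨k₀, hk₀, hk₀1⟩ : ∃ k ∈ ψ.range, k ≠ 1 := by
    by_contra! hh; exact hKC fun k hk => by rw [hh k hk]; exact one_mem C
  -- the order of `x`
  have hxo : orderOf (x : G) = s := by
    have hd : orderOf (x : G) ∣ s ^ a :=
      orderOf_dvd_of_pow_eq_one (by rw [← SubmonoidClass.coe_pow, hxa, OneMemClass.coe_one])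
    obtain ⟨e, -, he⟩ := (Nat.dvd_prime_pow hs).1 hd
    rcases e with _ | _ | e
    · rw [pow_zero, orderOf_eq_one_iff] at he
      exact absurd (show x ∈ A by rw [show x = 1 from Subtype.ext he]; exact one_mem A) hxA
    · rw [he, pow_one]
    · exfalso
      refine hno s hs hs2 (x : G) k₀
        (by rw [he, pow_succ, pow_succ, mul_assoc]; exact dvd_mul_left _ _) ?_ (hk1 k₀ hk₀).symm
      exact orderOf_eq_prime (by rw [sq]; exact h2.sq_of_mem T.2 (hKT hk₀)) hk₀1
  refine ⟨x, s, ψ.range, hs, hs2, hxo, hKT, hKx, hKC, fun i hi his k hk hc => hfx k hk ?_⟩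
  obtain ⟨u, hu⟩ := exists_pow_eq_self_of_coprime (x := (x : G)) (n := i) (by
    rw [hxo]; exact (hs.coprime_iff_not_dvd.2 fun hd => absurd (Nat.le_of_dvd hi hd) (by omega)).symm)
  rw [← hu]
  exact hc.pow_right u

theorem TwoOrders.not_commute_pow (h : TwoOrders G) :
    ∀ s : ℕ, s.Prime → s ≠ 2 → ∀ g y : G, s * s ∣ orderOf g → orderOf y = 2 →
      ¬ Commute (g ^ s) y := by
  intro s hs hs2 g y hsd hy hc
  obtain ⟨c, hcd⟩ := hsd
  obtain ⟨g', hg'⟩ := TwoOrders.exists_orderOf_of_dvd (orderOf_pos g).ne' (Dvd.intro c hcd.symm)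
  have hz : orderOf (g ^ (orderOf g / s)) = s :=
    orderOf_pow_orderOf_div (orderOf_pos g).ne' ⟨s * c, by rw [hcd, mul_assoc]⟩
  refine h.not_commute_of_sq hs Nat.prime_two hs2 hg' ?_ hz hy
  rw [show orderOf g / s = s * c by rw [hcd, mul_assoc, Nat.mul_div_cancel_left _ hs.pos], pow_mul]
  exact hc.pow_left c

/-- There are no nontrivial solvable normal subgroups. -/
theorem isMinNormal_not_isSolvable (h : TwoOrders G) (h2 : TwoElementary G)
    (hns : ¬ Group.IsSolvable G) {V : Subgroup G} (hV : MinNormal.IsMinNormal V) :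
    ¬ Group.IsSolvable V := by
  intro hsol
  haveI := Fact.mk Nat.prime_two
  haveI := hV.normal
  have hc := commute_of_isMinNormal hV hsol
  obtain ⟨q, hq, hexp, nV, hnV⟩ := exists_exponent_prime hV hc
  haveI := Fact.mk hq
  have hord : ∀ v ∈ V, v ≠ 1 → orderOf v = q := fun v hv h1 => orderOf_eq_prime (hexp v hv) h1
  obtain ⟨L, hLn, hLns, hperf⟩ := exists_perfect hns
  haveI := hLn
  set D := centralizer (V : Set G) with hD
  by_cases hLD : L ≤ D
  · -- every prime divisor of `|L|` other than `q` gives an element order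
    obtain ⟨⟨v, hvV⟩, hv⟩ := ne_bot_iff_exists_ne_one.1 hV.ne_bot
    have hv1 : v ≠ 1 := fun e => hv (Subtype.ext e)
    obtain ⟨s, t, hs, ht, hs2, ht2, hst, hsd, htd⟩ := exists_two_odd_primes hLns
    have key : ∀ s' : ℕ, s'.Prime → s' ∣ Nat.card L → q ≠ s' →
        ∃ g : G, orderOf g = q * s' := fun s' hs' hd hne => by
      obtain ⟨b, hb, hbo⟩ := exists_orderOf_prime_mem hs' hd
      exact ⟨_, TwoOrders.exists_orderOf_mul hq hs' hne
        (mem_centralizer_iff.1 (hLD hb) v hvV) (hord v hvV hv1) hbo⟩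
    have h2d : 2 ∣ Nat.card L := by
      obtain ⟨i, hi, hio⟩ := even_card_of_nonsolvable hLns
      exact hio ▸ orderOf_dvd_natCard L hi
    have huniq : ∀ s₁ s₂ : ℕ, s₁.Prime → s₂.Prime → s₁ ∣ Nat.card L → s₂ ∣ Nat.card L →
        q ≠ s₁ → q ≠ s₂ → s₁ = s₂ := fun s₁ s₂ h₁ h₂ d₁ d₂ n₁ n₂ => by
      obtain ⟨a, ha⟩ := key s₁ h₁ d₁ n₁
      obtain ⟨b, hb⟩ := key s₂ h₂ d₂ n₂
      exact h.mul_prime_unique hq h₁ h₂ ha hb
    rcases eq_or_ne q 2 with hq2 | hq2
    · exact hst (huniq s t hs ht hsd htd (by omega) (by omega))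
    rcases eq_or_ne q s with rfl | hqs
    · exact ht2 (huniq t 2 ht Nat.prime_two htd h2d hst hq2)
    · exact hs2 (huniq s 2 hs Nat.prime_two hsd h2d hqs hq2)
  -- `L` moves `V`
  have hperf' : commutator L = ⊤ := Subgroup.map_injective L.subtype_injective (by
    rw [map_subtype_commutator, hperf, ← MonoidHom.range_eq_map, range_subtype])
  let C : Subgroup L := D.subgroupOf L
  haveI : C.Normal := inferInstanceAs (D.subgroupOf L).Normal
  obtain ⟨T⟩ : Nonempty (Sylow 2 L) := inferInstance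
  have hTC : ¬ (T : Subgroup L) ≤ C := by
    intro hle
    have hodd : Odd (Nat.card (L ⧸ C)) := by
      rw [← index_eq_card]
      exact Odd.of_dvd_nat (Nat.odd_iff.2 (Nat.two_dvd_ne_zero.1 T.not_dvd_index))
        (index_dvd_of_le hle)
    haveI : Group.IsSolvable (L ⧸ C) := Cfsg.Agent.S0205.result hodd
    haveI : Nontrivial (L ⧸ C) := QuotientGroup.nontrivial_iff.2 (fun e => hLD (subgroupOf_eq_top.1 e))
    refine (Group.IsSolvable.commutator_lt_top_of_nontrivial (G := L ⧸ C)).ne ?_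
    have h1 := congrArg (Subgroup.map (QuotientGroup.mk' C)) hperf'
    rw [commutator_def, Subgroup.map_commutator, ← MonoidHom.range_eq_map,
      MonoidHom.range_eq_top.2 (QuotientGroup.mk'_surjective C)] at h1
    rwa [commutator_def]
  obtain ⟨x, s, K, hs, hs2, hxo, hKT, hxK, hKC, hfpf⟩ :=
    exists_mover (h.subgroup L).not_commute_pow (h2.subgroup L) hperf' T C hTC
  set K' := K.map L.subtype with hK'
  have hK'2 : IsPGroup 2 K' := (T.2.to_le hKT).map _
  obtain ⟨nK, hnK⟩ := IsPGroup.iff_card.1 hK'2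
  -- `q` is odd
  have hq2 : q ≠ 2 := by
    rintro rfl
    refine hKC fun k hk => ?_
    rw [mem_subgroupOf, hD, mem_centralizer_iff]
    intro v hv
    obtain ⟨S, hS⟩ := hK'2.exists_le_sylow
    have hV2 : IsPGroup 2 V := IsPGroup.of_card hnV
    have hVS : V ≤ (S : Subgroup G) :=
      le_sup_right.trans (S.3 (S.2.to_sup_of_normal_right hV2) le_sup_left).le
    exact (h2.commute_of_mem S.2 (hVS hv) (hS (mem_map_of_mem _ hk))).eq
  have hcop : (Nat.card K').Coprime (Nat.card V) := by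
    rw [hnV, hnK]
    exact ((Nat.coprime_primes Nat.prime_two hq).2 (Ne.symm hq2)).pow _ _
  have hxK' : (x : G) ∈ normalizer (K' : Set G) := le_normalizer_map L.subtype (mem_map_of_mem _ hxK)
  have hxo' : orderOf (x : G) = s := by rw [orderOf_coe, hxo]
  have hfpf' : ∀ i, 0 < i → i < s → ∀ k ∈ K', Commute k ((x : G) ^ i) → k = 1 := by
    rintro i hi his _ ⟨k, hk, rfl⟩ hcm
    have := hfpf i hi his k hk (Subtype.ext hcm.eq)
    rw [this, map_one]
  have hK'V : ¬ K' ≤ centralizer (V : Set G) := fun hle => hKC fun k hk =>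
    mem_subgroupOf.2 (hle (mem_map_of_mem _ hk))
  have hqs : ∃ g : G, orderOf g = q * s :=
    exists_mixed_elementary hq hs hc hexp (le_normalizer_of_normal) (le_normalizer_of_normal
      (H := V) (mem_top _)) hxK' hxo' hfpf' hcop hK'V
  -- an element of order `q * 2`
  have hq2' : ∃ g : G, orderOf g = q * 2 := by
    obtain ⟨⟨w₀, hw₀⟩, hw₀'⟩ := Subgroup.ne_bot_iff_exists_ne_one.1 hV.ne_bot
    have hw₀1 : w₀ ≠ 1 := fun e => hw₀' (Subtype.ext e)
    obtain ⟨k, hk, hk1⟩ : ∃ k ∈ K', k ≠ 1 := by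
      obtain ⟨k, hk, hkC⟩ := SetLike.not_le_iff_exists.1 hKC
      exact ⟨k, mem_map_of_mem _ hk, fun e => hkC (by rw [show k = 1 from Subtype.ext e]; exact one_mem C)⟩
    set k₂ : G := (x : G) * k * (x : G)⁻¹ with hk₂
    have hk₂K : k₂ ∈ K' := conj_mem_of_le_normalizer hxK' hk
    have hk₂1 : k₂ ≠ 1 := fun e => hk1 (by
      calc k = (x : G)⁻¹ * k₂ * x := by rw [hk₂]; group
        _ = 1 := by rw [e]; group)
    have hne : k ≠ k₂ := fun e => hk1 (hfpf' 1 one_pos hs.one_lt k hk (by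
      rw [pow_one]; exact (mul_inv_eq_iff_eq_mul.1 e.symm).symm))
    have hsq : ∀ a ∈ K', a * a = 1 := fun a ha => h2.sq_of_mem hK'2 ha
    have hKc : Commute k k₂ := h2.commute_of_mem hK'2 hk hk₂K
    have hone : ∀ a ∈ K', a ≠ 1 → ∀ z ∈ V, z ≠ 1 → Commute a z → ∃ g : G, orderOf g = q * 2 :=
      fun a ha ha1 z hz hz1 hcaz => ⟨_, TwoOrders.exists_orderOf_mul hq Nat.prime_two hq2 hcaz.symm
        (hord z hz hz1) (orderOf_eq_prime (by rw [sq]; exact hsq a ha) ha1)⟩
    have hfixed : ∀ a ∈ K', ∀ z ∈ V, Commute a (z * (a * z * a⁻¹)) := by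
      intro a ha z hz
      have ha' : a⁻¹ = a := inv_eq_of_mul_eq_one_right (hsq a ha)
      have h1 := (hc z hz _ (hV.normal.conj_mem z hz a)).eq
      show a * (z * (a * z * a⁻¹)) = z * (a * z * a⁻¹) * a
      calc a * (z * (a * z * a⁻¹)) = (a * z * a⁻¹) * ((a * a) * z * (a⁻¹ * a⁻¹)) * a := by group
        _ = (a * z * a⁻¹) * z * a := by rw [hsq a ha, ha', hsq a ha]; simp
        _ = z * (a * z * a⁻¹) * a := by rw [← h1]
    by_cases hA' : w₀ * (k * w₀ * k⁻¹) = 1
    · by_cases hB : w₀ * (k₂ * w₀ * k₂⁻¹) = 1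
      · have e1 : k * w₀ * k⁻¹ = w₀⁻¹ := eq_inv_of_mul_eq_one_right hA'
        have e2 : k₂ * w₀ * k₂⁻¹ = w₀⁻¹ := eq_inv_of_mul_eq_one_right hB
        refine hone (k * k₂) (mul_mem hk hk₂K) ?_ w₀ hw₀ hw₀1 ?_
        · intro e
          exact hne (by rw [eq_inv_of_mul_eq_one_left e, inv_eq_of_mul_eq_one_right (hsq _ hk₂K)])
        · refine mul_inv_eq_iff_eq_mul.1 ?_
          calc k * k₂ * w₀ * (k * k₂)⁻¹ = k * (k₂ * w₀ * k₂⁻¹) * k⁻¹ := by group
            _ = (k * w₀ * k⁻¹)⁻¹ := by rw [e2]; group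
            _ = w₀ := by rw [e1, inv_inv]
      · exact hone k₂ hk₂K hk₂1 _ (mul_mem hw₀ (hV.normal.conj_mem _ hw₀ _)) hB
          (hfixed k₂ hk₂K w₀ hw₀)
    · exact hone k hk hk1 _ (mul_mem hw₀ (hV.normal.conj_mem _ hw₀ _)) hA'
        (hfixed k hk w₀ hw₀)
  obtain ⟨g, hg⟩ := hqs
  obtain ⟨g', hg'⟩ := hq2'
  exact hs2 (h.mul_prime_unique hq hs Nat.prime_two hg hg')

end CfsgLib.FGS74.ThreeOrders
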