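import Cfsg.Agent.FGS74.ThreeOrders.CITBranch
import Cfsg.Agent.FGS74.ThreeOrders.OuterElem
import Cfsg.Agent.FGS74.ThreeOrders.Radical
import Cfsg.Agent.OneComposite.Hyp
import Cfsg.Agent.S1230

/-!
# Groups without elements of order four
-/

set_option autoImplicit false
set_option linter.style.haveILetI false

namespace CfsgLib.FGS74.ThreeOrders

open Subgroup
open scoped MatrixGroups

universe u

variable {G : Type u} [Group G] [Finite G]

/-- Two nonsolvable subgroups do not centralise each other. -/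
theorem TwoOrders.false_of_commuting_subgroups (h : TwoOrders G) {A B : Subgroup G}
    (hA : ¬ Group.IsSolvable A) (hB : ¬ Group.IsSolvable B)
    (hc : ∀ a ∈ A, ∀ b ∈ B, Commute a b) : False := by
  obtain ⟨i, hi, hio⟩ := even_card_of_nonsolvable hA
  obtain ⟨s, t, hs, ht, hs2, ht2, hst, hsd, htd⟩ := exists_two_odd_primes hB
  obtain ⟨b, hb, hbo⟩ := exists_orderOf_prime_mem hs hsd
  obtain ⟨c, hc', hco⟩ := exists_orderOf_prime_mem ht htd
  exact hst (h.commute_prime_unique Nat.prime_two hs ht (Ne.symm hs2) (Ne.symm ht2)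
    (hc i hi b hb) (hc i hi c hc') hio hio hbo hco)

theorem twoElementary_of_ne_four (h4 : ∀ g : G, orderOf g ≠ 4) : TwoElementary G := by
  intro g k hk
  obtain ⟨j, -, hj⟩ := (Nat.dvd_prime_pow Nat.prime_two).1 (orderOf_dvd_of_pow_eq_one hk)
  rcases Nat.lt_or_ge j 2 with h1 | h1
  · rw [← sq, ← orderOf_dvd_iff_pow_eq_one, hj]
    simpa using pow_dvd_pow 2 (show j ≤ 1 by omega)
  · obtain ⟨g', hg'⟩ := TwoOrders.exists_orderOf_of_dvd (orderOf_pos g).ne'
      (show 4 ∣ orderOf g by rw [hj]; exact pow_dvd_pow 2 h1)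
    exact absurd hg' (h4 g')

/-- A group without elements of order four is almost simple. -/
theorem exists_socle_elementary (hns : ¬ Group.IsSolvable G) (h : TwoOrders G)
    (h4 : ∀ g : G, orderOf g ≠ 4) :
    Cfsg.pCore 2 G = ⊥ ∧ ∃ M : Subgroup G, M.Normal ∧ IsSimpleGroup M ∧ ¬ IsMulCommutative M ∧
      centralizer (M : Set G) = ⊥ := by
  haveI := Fact.mk Nat.prime_two
  have hmin : ∀ V : Subgroup G, MinNormal.IsMinNormal V → ¬ Group.IsSolvable V :=
    fun V hV => isMinNormal_not_isSolvable h (twoElementary_of_ne_four h4) hns hV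
  constructor
  · by_contra hne
    haveI : (Cfsg.pCore 2 G).Normal := CfsgLib.LocalStructure.pCore_normal
    obtain ⟨V, hV, hVle⟩ := MinNormal.exists_isMinNormal_le (Cfsg.pCore 2 G) hne
    refine hmin V hV ?_
    haveI := (CfsgLib.LocalStructure.pCore_isPGroup.to_le hVle : IsPGroup 2 V).isNilpotent
    infer_instance
  haveI : Nontrivial G := by
    by_contra hn
    rw [not_nontrivial_iff_subsingleton] at hn
    exact hns inferInstance
  obtain ⟨M, hM, -⟩ := MinNormal.exists_isMinNormal_le (⊤ : Subgroup G) top_ne_bot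
  haveI := hM.normal
  have hMns := hmin M hM
  have hMnc : ¬ IsMulCommutative M := fun hc => hMns (by
    haveI := hc
    letI : CommGroup M := { (inferInstance : Group M) with mul_comm := IsMulCommutative.is_comm.comm }
    infer_instance)
  obtain ⟨T, hT⟩ := MinNormal.exists_isFactor hM
  have hTns : ∀ U : Subgroup G, MinNormal.IsFactor M U → ¬ Group.IsSolvable U := fun U hU hs => by
    haveI := hU.isSimpleGroup hM
    exact hU.not_commutative hM hMnc ⟨⟨fun a b => IsSimpleGroup.comm_iff_isSolvable.2 hs a b⟩⟩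
  have hTM : T = M := by
    by_contra hne
    obtain ⟨g, hg⟩ : ∃ g : G, T.map (MulAut.conj g).toMonoidHom ≠ T := by
      by_contra hall
      push Not at hall
      refine hne (le_antisymm hT.le ?_)
      rw [← MinNormal.iSup_factor_eq hM hT]
      exact iSup_le fun g => (hall g).le
    exact h.false_of_commuting_subgroups (hTns T hT) (hTns _ (hT.conj hM g))
      fun a ha b hb => hT.commute (hT.conj hM g) (Ne.symm hg) ha hb
  refine ⟨M, hM.normal, hTM ▸ hT.isSimpleGroup hM, hMnc, ?_⟩
  by_contra hC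
  obtain ⟨V, hV, hVC⟩ := MinNormal.exists_isMinNormal_le _ hC
  exact h.false_of_commuting_subgroups hMns (hmin V hV)
    fun a ha b hb => mem_centralizer_iff.1 (hVC hb) a ha

/-- A group without elements of order four is on the list, given the simple groups with the
hypothesis `OneComposite.Hyp`. -/
theorem listed_of_no_four
    (core : ∀ (M : Type u) [Group M] [Finite M] (r : ℕ), OneComposite.Hyp M r →
      ∃ (F : Type) (_ : Field F) (_ : Fintype F), Odd (Fintype.card F) ∧ Nonempty (M ≃* PSL(2, F)))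
    (hns : ¬ Group.IsSolvable G) (h : TwoOrders G) (h4 : ∀ g : G, orderOf g ≠ 4) : Listed G := by
  haveI := Fact.mk Nat.prime_two
  obtain ⟨hR, M, hMn, hMs, hMnc, hMC⟩ := exists_socle_elementary hns h h4
  haveI := hMn
  haveI := hMs
  have hMns : ¬ Group.IsSolvable M := fun hs =>
    hMnc ⟨⟨fun a b => IsSimpleGroup.comm_iff_isSolvable.2 hs a b⟩⟩
  have hMo := h.subgroup M
  have hM4 : ∀ g : M, orderOf g ≠ 4 := fun g => by rw [← Subgroup.orderOf_coe g]; exact h4 _
  by_cases h2r : ∃ (r : ℕ) (g : M), r.Prime ∧ r ≠ 2 ∧ orderOf g = 2 * r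
  · -- odd characteristic
    obtain ⟨r, g₀, hr, hr2, hg₀⟩ := h2r
    have hyp : OneComposite.Hyp M r := by
      refine ⟨hMs, hMnc, hr, hr2, fun g hg => ?_, fun g hg => ?_, g₀, hg₀⟩
      · rcases hMo.eq_prime_or_mul Nat.prime_two hg with h2 | ⟨q, hq, ho⟩
        · exact Or.inl h2
        · exact Or.inr (by rw [ho, hMo.mul_prime_unique Nat.prime_two hq hr ho hg₀])
      · rcases hMo.eq_prime_or_mul hr hg with h2 | ⟨q, hq, ho⟩
        · exact Or.inl h2
        · exact Or.inr (by
            rw [ho, hMo.mul_prime_unique hr hq Nat.prime_two ho (hg₀.trans (mul_comm 2 r)), mul_comm])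
    obtain ⟨F, iF, iT, hodd, ⟨e⟩⟩ := core M r hyp
    have h4F := four_le_card hMns e
    obtain ⟨p, hp⟩ := CharP.exists F
    haveI := Fact.mk (CharP.char_is_prime F p)
    haveI := hp
    have hg2 : Nat.gcd 2 (Fintype.card F - 1) = 2 := by
      obtain ⟨a, ha⟩ := hodd; exact Nat.gcd_eq_left (by omega)
    have hspec : ∀ k, (k ∣ p ∨ k ∣ (Fintype.card F - 1) / 2 ∨ k ∣ (Fintype.card F + 1) / 2) →
        ∃ x : M, orderOf x = k := by
      intro k hk
      obtain ⟨x, hx⟩ : k ∈ Set.range (orderOf : PSL(2, F) → ℕ) := by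
        rw [Cfsg.Agent.S2475.result (F := F) p h4F, hg2]; exact hk
      exact ⟨e.symm x, by rw [e.symm.orderOf_eq, hx]⟩
    have hq : Fintype.card F % 8 = 3 ∨ Fintype.card F % 8 = 5 := by
      obtain ⟨a, ha⟩ := hodd
      by_contra hne
      have : 4 ∣ (Fintype.card F - 1) / 2 ∨ 4 ∣ (Fintype.card F + 1) / 2 := by omega
      obtain ⟨x, hx⟩ := hspec 4 (Or.inr this)
      exact hM4 x hx
    have h5 : 5 < Fintype.card F := by
      by_contra h5
      have hF5 : Fintype.card F = 5 := by omega
      obtain ⟨x, hx⟩ : ∃ x : PSL(2, F), orderOf x = 2 * r := ⟨e g₀, by rw [e.orderOf_eq, hg₀]⟩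
      have hmem : 2 * r ∈ Set.range (orderOf : PSL(2, F) → ℕ) := ⟨x, hx⟩
      rw [Cfsg.Agent.S2475.result (F := F) p h4F, hg2, hF5] at hmem
      have hp5 : p = 5 := by
        obtain ⟨f, hpp, hf⟩ := FiniteField.card F p
        rw [hF5] at hf
        exact ((Nat.prime_dvd_prime_iff_eq hpp Nat.prime_five).1 (hf ▸ dvd_pow_self p f.pos.ne'))
      rcases hmem with hd | hd | hd
      · rw [hp5] at hd; exact absurd ((dvd_mul_right 2 r).trans hd) (by norm_num)
      · norm_num at hd; have := Nat.le_of_dvd two_pos hd; have := hr.two_le; omega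
      · norm_num at hd; exact absurd ((dvd_mul_right 2 r).trans hd) (by norm_num)
    have hM := psl_odd_eq_top h h4 hMC e hq
    have eG : G ≃* PSL(2, F) :=
      (Subgroup.topEquiv.symm.trans (MulEquiv.subgroupCongr hM.symm)).trans e
    refine Or.inr (Or.inl ⟨F, iF, iT, h5, hq, ?_, ?_, ⟨eG⟩⟩)
    · exact length_torus_le h eG h4F (Or.inr (by rw [hg2]))
    · exact length_torus_le h eG h4F (Or.inl (by rw [hg2]))
  · -- characteristic two
    push Not at h2r
    have hCI : ∀ t : M, orderOf t = 2 → ∀ c ∈ centralizer ({t} : Set M), c ^ 2 = 1 := by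
      intro t ht c hc
      have hodd : ∀ r : ℕ, r.Prime → r ≠ 2 → ¬ r ∣ orderOf c := fun r hr hr2 hd => by
        obtain ⟨c', hc'⟩ : ∃ c' : M, orderOf c' = r ∧ Commute c' t :=
          ⟨c ^ (orderOf c / r), orderOf_pow_orderOf_div (orderOf_pos c).ne' hd,
            (show Commute c t from mem_centralizer_singleton_iff.1 hc).pow_left _⟩
        exact h2r r _ hr hr2 (TwoOrders.exists_orderOf_mul Nat.prime_two hr (Ne.symm hr2) hc'.2.symm ht hc'.1)
      have hpow : orderOf c = 2 ^ (orderOf c).primeFactorsList.length :=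
        Nat.eq_prime_pow_of_unique_prime_dvd (orderOf_pos c).ne' fun {d} hd hdd =>
          by_contra fun hd2 => hodd d hd hd2 hdd
      rw [sq]
      exact twoElementary_of_ne_four hM4 c _ (hpow ▸ pow_orderOf_eq_one c)
    obtain ⟨T⟩ : Nonempty (Sylow 2 M) := inferInstance
    have hTnn : ¬ (T : Subgroup M).Normal := by
      intro hn
      rcases hn.eq_bot_or_eq_top with hb | ht
      · obtain ⟨i, -, hi⟩ := even_card_of_nonsolvable (H := (⊤ : Subgroup M)) (fun hs => hMns (by
          haveI := hs; exact Group.isSolvable_of_surjective (f := (⊤ : Subgroup M).subtype)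
            fun x => ⟨⟨x, mem_top x⟩, rfl⟩))
        have : Odd (Nat.card M) := by
          rw [← Subgroup.index_bot, ← hb]
          exact Nat.odd_iff.2 (Nat.two_dvd_ne_zero.1 T.not_dvd_index)
        exact Nat.not_even_iff_odd.2 this (even_iff_two_dvd.2 (hi ▸ orderOf_dvd_natCard i))
      · exact hMns (by
          haveI := (ht ▸ T.2 : IsPGroup 2 (⊤ : Subgroup M)).isNilpotent
          exact Group.isSolvable_of_surjective (f := (⊤ : Subgroup M).subtype) fun x => ⟨⟨x, mem_top x⟩, rfl⟩)
    have hTnc : ¬ IsCyclic (T : Subgroup M) := by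
      intro hc
      have hmin : (Nat.card M).minFac = 2 := (Nat.minFac_eq_two_iff _).2 (by
        by_contra ho
        exact hMns (Cfsg.Agent.S0205.result (Nat.odd_iff.2 (Nat.two_dvd_ne_zero.1 ho))))
      haveI := hc
      have hN := IsCyclic.normalizer_le_centralizer (P := T) hmin inferInstance
      have hcompl := MonoidHom.ker_transferSylow_isComplement' T hN
      rcases (MonoidHom.transferSylow T hN).normal_ker.eq_bot_or_eq_top with hb | ht
      · rw [hb, Subgroup.isComplement'_bot_left] at hcompl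
        exact hTnn (hcompl ▸ inferInstance)
      · rw [ht, Subgroup.isComplement'_top_left] at hcompl
        exact hTnn (hcompl ▸ inferInstance)
    obtain ⟨F, iF, iT, hFT, ⟨e⟩⟩ := Cfsg.Agent.S1230.result T hTnc hTnn fun t ht => ⟨⟨⟨fun a b => Subtype.ext (by
        have ha := hCI t ht a a.2
        have hb := hCI t ht b b.2
        have hab := hCI t ht _ (mul_mem a.2 b.2)
        rw [sq] at ha hb hab
        calc (a : M) * b = ((a : M) * b)⁻¹ := (inv_eq_of_mul_eq_one_right hab).symm
          _ = (b : M) * a := by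
            rw [mul_inv_rev, inv_eq_of_mul_eq_one_right ha, inv_eq_of_mul_eq_one_right hb])⟩⟩,
      hCI t ht⟩
    have h4F := four_le_card hMns e
    haveI : CharP F 2 := by
      obtain ⟨n, hn⟩ := IsPGroup.iff_card.1 T.2
      exact charP_of_card_eq_prime_pow (hFT.trans hn)
    have hM := psl_even_eq_top h h4 hMC e h4F
    have eG : G ≃* PSL(2, F) :=
      (Subgroup.topEquiv.symm.trans (MulEquiv.subgroupCongr hM.symm)).trans e
    have hg : Nat.gcd 2 (Fintype.card F - 1) = 1 := by
      obtain ⟨f, -, hf⟩ := FiniteField.card F 2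
      refine Nat.prime_two.coprime_iff_not_dvd.2 ?_
      have : 2 ∣ Fintype.card F := hf ▸ dvd_pow_self 2 f.pos.ne'
      omega
    refine Or.inl ⟨F, iF, iT, inferInstance, h4F, ?_, ?_,
      ⟨((QuotientGroup.quotientMulEquivOfEq hR).trans QuotientGroup.quotientBot).trans eG⟩⟩
    · exact length_torus_le h eG h4F (Or.inr (by rw [hg, Nat.div_one]))
    · exact length_torus_le h eG h4F (Or.inl (by rw [hg, Nat.div_one]))

end CfsgLib.FGS74.ThreeOrders
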