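import Cfsg.Agent.FGS74.ThreeOrders.Lift
import Cfsg.Agent.Suzuki.Tori
import Mathlib.LinearAlgebra.Matrix.ProjectiveSpecialLinearGroup

/-!
# No two-group below `PSL₂(7)`, `PSL₂(9)`, `PSL₃(4)` and `Sz(q)`
-/

set_option autoImplicit false
set_option linter.style.haveILetI false

namespace CfsgLib.FGS74.ThreeOrders

open Matrix
open CfsgLib.CITGroups (IsCIT)
open scoped MatrixGroups

universe u

variable {G : Type u} [Group G] [Finite G] {R : Subgroup G} [R.Normal]

section Line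

variable {F : Type*} [Field F] [Fintype F]

local notation "P₂" => Matrix.ProjectiveSpecialLinearGroup (Fin 2) F

omit [Fintype F] in
private theorem coe_pow_uni (t : F) (s : SL(2, F)) (hs : (s : Matrix (Fin 2) (Fin 2) F) = !![1, t; 0, 1])
    (k : ℕ) : ((s ^ k : SL(2, F)) : Matrix (Fin 2) (Fin 2) F) = !![1, (k : F) * t; 0, 1] := by
  induction k with
  | zero => rw [pow_zero, Nat.cast_zero, zero_mul]; exact one_fin_two
  | succ k ih =>
    rw [pow_succ]
    show ((s ^ k : SL(2, F)) : Matrix (Fin 2) (Fin 2) F) * (s : Matrix (Fin 2) (Fin 2) F) = _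
    rw [ih, hs]
    ext i j; fin_cases i <;> fin_cases j <;> simp [add_mul, add_comm]

omit [Fintype F] in
private theorem mk_ne_one (s : SL(2, F)) (hs : (s : Matrix (Fin 2) (Fin 2) F) 0 1 ≠ 0) :
    (QuotientGroup.mk s : P₂) ≠ 1 := by
  intro h
  rw [QuotientGroup.eq_one_iff, Matrix.SpecialLinearGroup.mem_center_iff] at h
  obtain ⟨r, -, hr⟩ := h
  exact hs (by rw [← hr]; simp)

/-- Below `PSL₂(7)`. -/
theorem eq_bot_psl_seven (h : IsCIT G) (h24 : ∀ g : G, 2 ∣ orderOf g → orderOf g = 2 ∨ orderOf g = 4)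
    (hR : IsPGroup 2 R) (hF : Fintype.card F = 7) (e : P₂ ≃* G ⧸ R) : R = ⊥ := by
  by_contra hR1
  haveI : Fact (Nat.Prime 7) := ⟨by norm_num⟩
  haveI := Fact.mk Nat.prime_three
  haveI : CharP F 7 := charP_of_card_eq_prime_pow (show Fintype.card F = 7 ^ 1 by rw [hF, pow_one])
  have h7 : (7 : F) = 0 := by exact_mod_cast CharP.cast_eq_zero F 7
  have h30 : (3 : F) ≠ 0 := fun e0 => one_ne_zero (by linear_combination h7 - 2 * e0 : (1 : F) = 0)
  let u : SL(2, F) := ⟨!![1, 1; 0, 1], by simp [det_fin_two_of]⟩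
  let b : SL(2, F) := ⟨!![2, 0; 0, 4], by rw [det_fin_two_of]; linear_combination h7⟩
  have hu : orderOf (QuotientGroup.mk u : P₂) = 7 := by
    refine orderOf_eq_prime ?_ (mk_ne_one u (by simp [u]))
    rw [← QuotientGroup.mk_pow, show u ^ 7 = 1 from Subtype.ext ?_, QuotientGroup.mk_one]
    rw [coe_pow_uni 1 u rfl, mul_one, Nat.cast_ofNat, h7]
    exact one_fin_two.symm
  have hcom : ∀ k : ℕ, b * u = u ^ k * b ↔
      (!![2, 2; 0, 4] : Matrix (Fin 2) (Fin 2) F) = !![2, (k : F) * 4; 0, 4] := by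
    intro k
    refine Iff.trans Subtype.ext_iff ?_
    show ((b : Matrix (Fin 2) (Fin 2) F) * (u : Matrix (Fin 2) (Fin 2) F)) =
      ((u ^ k : SL(2, F)) : Matrix (Fin 2) (Fin 2) F) * (b : Matrix (Fin 2) (Fin 2) F) ↔ _
    rw [coe_pow_uni 1 u rfl, mul_one]
    show (!![2, 0; 0, 4] : Matrix (Fin 2) (Fin 2) F) * !![1, 1; 0, 1] = !![1, (k : F); 0, 1] * !![2, 0; 0, 4] ↔ _
    rw [show (!![2, 0; 0, 4] : Matrix (Fin 2) (Fin 2) F) * !![1, 1; 0, 1] = !![2, 2; 0, 4] by
      ext i j; fin_cases i <;> fin_cases j <;> simp,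
      show (!![1, (k : F); 0, 1] : Matrix (Fin 2) (Fin 2) F) * !![2, 0; 0, 4] = !![2, (k : F) * 4; 0, 4] by
      ext i j; fin_cases i <;> fin_cases j <;> simp]
  refine false_of_frobenius h h24 hR hR1 e (a := QuotientGroup.mk u) (x := QuotientGroup.mk b) (n := 3)
    (Or.inl rfl) (orderOf_eq_prime ?_ ?_) (hu ▸ by decide) ?_ ?_ fun _ => ⟨hu ▸ by norm_num, ?_⟩
  · rw [← QuotientGroup.mk_pow, show b ^ 3 = 1 from Subtype.ext ?_, QuotientGroup.mk_one]
    rw [pow_succ, pow_two]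
    show (!![2, 0; 0, 4] : Matrix (Fin 2) (Fin 2) F) * !![2, 0; 0, 4] * !![2, 0; 0, 4] = 1
    ext i j; fin_cases i <;> fin_cases j <;> simp
    · linear_combination h7
    · linear_combination 9 * h7
  · intro hb
    rw [QuotientGroup.eq_one_iff, Matrix.SpecialLinearGroup.mem_center_iff] at hb
    obtain ⟨r, -, hr⟩ := hb
    have e0 := congrFun (congrFun hr 0) 0
    have e1 := congrFun (congrFun hr 1) 1
    simp [b] at e0 e1
    exact h30 (by linear_combination h7 - 2 * (e0 - e1))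
  · exact mk_ne_one u (by simp [u])
  · refine Subgroup.mem_zpowers_iff.2 ⟨4, ?_⟩
    rw [show (4 : ℤ) = ((4 : ℕ) : ℤ) from rfl, zpow_natCast, eq_mul_inv_iff_mul_eq, ← QuotientGroup.mk_pow,
      ← QuotientGroup.mk_mul, ← QuotientGroup.mk_mul,
      show b * u = u ^ 4 * b from (hcom 4).2 ?_]
    ext i j; fin_cases i <;> fin_cases j <;> simp
    linear_combination -2 * h7
  · intro hc
    have hc' : ((QuotientGroup.mk (b * u) : P₂)) = QuotientGroup.mk (u * b) := by
      rw [QuotientGroup.mk_mul, QuotientGroup.mk_mul, hc.eq]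
    rw [QuotientGroup.eq, Matrix.SpecialLinearGroup.mem_center_iff] at hc'
    obtain ⟨r, -, hr⟩ := hc'
    have ht : ((u * b : SL(2, F)) : Matrix (Fin 2) (Fin 2) F) =
        ((b * u : SL(2, F)) : Matrix (Fin 2) (Fin 2) F) * scalar (Fin 2) r := by
      rw [hr, ← Matrix.SpecialLinearGroup.coe_mul, mul_inv_cancel_left]
    rw [Matrix.SpecialLinearGroup.coe_mul, Matrix.SpecialLinearGroup.coe_mul] at ht
    have e0 := congrFun (congrFun ht 0) 0
    have e1 := congrFun (congrFun ht 0) 1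
    simp [u, b] at e0 e1
    exact h30 (by grind)

/-- Below `PSL₂(9)`. -/
theorem eq_bot_psl_nine (h : IsCIT G) (hR : IsPGroup 2 R) (hF : Fintype.card F = 9)
    (e : P₂ ≃* G ⧸ R) : R = ⊥ := by
  by_contra hR1
  haveI := Fact.mk Nat.prime_three
  haveI : CharP F 3 := charP_of_card_eq_prime_pow (show Fintype.card F = 3 ^ 2 by rw [hF]; norm_num)
  have h3 : (3 : F) = 0 := by exact_mod_cast CharP.cast_eq_zero F 3
  classical
  obtain ⟨t, -, ht⟩ := Finset.exists_mem_notMem_of_card_lt_card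
    (s := ({0, 1, 2} : Finset F)) (t := Finset.univ)
    (lt_of_le_of_lt Finset.card_le_three (by rw [Finset.card_univ, hF]; norm_num))
  simp only [Finset.mem_insert, Finset.mem_singleton, not_or] at ht
  let a : SL(2, F) := ⟨!![1, 1; 0, 1], by simp [det_fin_two_of]⟩
  let b : SL(2, F) := ⟨!![1, t; 0, 1], by simp [det_fin_two_of]⟩
  have hp : ∀ (c : F) (s : SL(2, F)), (s : Matrix (Fin 2) (Fin 2) F) = !![1, c; 0, 1] →
      (QuotientGroup.mk s : P₂) ^ 3 = 1 := by
    intro c s hs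
    rw [← QuotientGroup.mk_pow, show s ^ 3 = 1 from Subtype.ext ?_, QuotientGroup.mk_one]
    rw [coe_pow_uni c s hs, Nat.cast_ofNat, h3, zero_mul]
    exact one_fin_two.symm
  have hba : ∀ i : ℕ, (t + i : F) ≠ 0 := by
    intro i hi
    have : (i : F) = ((i % 3 : ℕ) : F) := by
      conv_lhs => rw [← Nat.div_add_mod i 3]
      push_cast
      linear_combination (↑(i / 3) : F) * h3
    rw [this] at hi
    have := Nat.mod_lt i (show 3 > 0 by norm_num)
    interval_cases (i % 3)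
    · exact ht.1 (by simpa using hi)
    · exact ht.2.2 (by push_cast at hi; linear_combination hi - h3)
    · exact ht.2.1 (by push_cast at hi; linear_combination hi - h3)
  refine false_of_commuting_three h hR hR1 e (a := QuotientGroup.mk a) (b := QuotientGroup.mk b)
    (hp 1 a rfl) (hp t b rfl) ?_ (mk_ne_one a (by simp [a])) ?_
  · show QuotientGroup.mk a * QuotientGroup.mk b = QuotientGroup.mk b * QuotientGroup.mk a
    rw [← QuotientGroup.mk_mul, ← QuotientGroup.mk_mul]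
    congr 1
    apply Subtype.ext
    show (!![1, 1; 0, 1] : Matrix (Fin 2) (Fin 2) F) * !![1, t; 0, 1] = !![1, t; 0, 1] * !![1, 1; 0, 1]
    ext i j; fin_cases i <;> fin_cases j <;> simp [add_comm]
  · intro i
    rw [← QuotientGroup.mk_pow, ← QuotientGroup.mk_mul]
    refine mk_ne_one _ ?_
    show ((b : Matrix (Fin 2) (Fin 2) F) * ((a ^ i : SL(2, F)) : Matrix (Fin 2) (Fin 2) F)) 0 1 ≠ 0
    rw [coe_pow_uni 1 a rfl, mul_one]
    simpa [b, add_comm] using hba i

end Line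

section Plane

variable {F : Type*} [Field F] [Fintype F]

local notation "P₃" => Matrix.ProjectiveSpecialLinearGroup (Fin 3) F

/-- Below `PSL₃(4)`. -/
theorem eq_bot_psl_three (h : IsCIT G) (h24 : ∀ g : G, 2 ∣ orderOf g → orderOf g = 2 ∨ orderOf g = 4)
    (hR : IsPGroup 2 R) (hF : Fintype.card F = 4) (e : P₃ ≃* G ⧸ R) : R = ⊥ := by
  by_contra hR1
  haveI := Fact.mk Nat.prime_two
  haveI := Fact.mk Nat.prime_three
  haveI : Fact (Nat.Prime 7) := ⟨by norm_num⟩
  haveI : CharP F 2 := charP_of_card_eq_prime_pow (show Fintype.card F = 2 ^ 2 by rw [hF]; rfl)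
  have h2 : (1 : F) + 1 = 0 := CharTwo.add_self_eq_zero 1
  let a : SL(3, F) := ⟨!![0, 0, 1; 1, 0, 1; 0, 1, 0], by simp [det_fin_three]⟩
  let b : SL(3, F) := ⟨!![0, 0, 1; 0, 1, 0; 1, 1, 1], by simp [det_fin_three, CharTwo.neg_eq]⟩
  have hne : ∀ s : SL(3, F), (s : Matrix (Fin 3) (Fin 3) F) 0 2 = 1 → (QuotientGroup.mk s : P₃) ≠ 1 := by
    intro s hs h1
    rw [QuotientGroup.eq_one_iff, Matrix.SpecialLinearGroup.mem_center_iff] at h1
    obtain ⟨r, -, hr⟩ := h1
    rw [← hr] at hs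
    simp at hs
  have ha2 : ((a ^ 2 : SL(3, F)) : Matrix (Fin 3) (Fin 3) F) = !![0, 1, 0; 0, 1, 1; 1, 0, 1] := by
    rw [pow_two, Matrix.SpecialLinearGroup.coe_mul]
    ext i j; fin_cases i <;> fin_cases j <;> simp [a, Matrix.mul_apply, Fin.sum_univ_three]
  have ha7 : a ^ 7 = 1 := by
    apply Subtype.ext
    rw [show a ^ 7 = a ^ 2 * a ^ 2 * a ^ 2 * a by group, Matrix.SpecialLinearGroup.coe_mul,
      Matrix.SpecialLinearGroup.coe_mul, Matrix.SpecialLinearGroup.coe_mul, ha2]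
    ext i j; fin_cases i <;> fin_cases j <;> simp [a, Matrix.mul_apply, Fin.sum_univ_three, h2]
  have hb3 : b ^ 3 = 1 := by
    apply Subtype.ext
    rw [pow_succ, pow_two, Matrix.SpecialLinearGroup.coe_mul, Matrix.SpecialLinearGroup.coe_mul]
    ext i j; fin_cases i <;> fin_cases j <;> simp [b, Matrix.mul_apply, Fin.sum_univ_three, h2]
  have hab : b * a = a ^ 2 * b := by
    apply Subtype.ext
    rw [Matrix.SpecialLinearGroup.coe_mul, Matrix.SpecialLinearGroup.coe_mul, ha2]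
    ext i j; fin_cases i <;> fin_cases j <;> simp [a, b, Matrix.mul_apply, Fin.sum_univ_three, h2]
  have hao : orderOf (QuotientGroup.mk a : P₃) = 7 :=
    orderOf_eq_prime (by rw [← QuotientGroup.mk_pow, ha7, QuotientGroup.mk_one]) (hne a (by simp [a]))
  refine false_of_frobenius h h24 hR hR1 e (a := QuotientGroup.mk a) (x := QuotientGroup.mk b) (n := 3)
    (Or.inl rfl) (orderOf_eq_prime (by rw [← QuotientGroup.mk_pow, hb3, QuotientGroup.mk_one])
      (hne b (by simp [b]))) (hao ▸ by decide) (hne a (by simp [a])) ?_ fun _ => ⟨hao ▸ by norm_num, ?_⟩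
  · refine Subgroup.mem_zpowers_iff.2 ⟨2, ?_⟩
    rw [show (2 : ℤ) = ((2 : ℕ) : ℤ) from rfl, zpow_natCast, eq_mul_inv_iff_mul_eq, ← QuotientGroup.mk_pow,
      ← QuotientGroup.mk_mul, ← QuotientGroup.mk_mul, hab]
  · intro hc
    have h1 : (QuotientGroup.mk a : P₃) * QuotientGroup.mk b = QuotientGroup.mk a * QuotientGroup.mk a * QuotientGroup.mk b := by
      rw [hc.eq, ← QuotientGroup.mk_mul, hab, QuotientGroup.mk_mul, QuotientGroup.mk_pow, pow_two]
    exact hne a (by simp [a]) (mul_left_cancel ((mul_one _).trans (mul_right_cancel h1))).symm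

end Plane

section Suzuki

open CfsgLib.Suzuki

variable {F : Type*} [Field F] [Fintype F] {m : ℕ}

/-- Below a Suzuki group. -/
theorem eq_bot_suzuki (h : IsCIT G) (h24 : ∀ g : G, 2 ∣ orderOf g → orderOf g = 2 ∨ orderOf g = 4)
    (hK : IsCIT (Cfsg.Sz F m)) (hR : IsPGroup 2 R) (hS : SzField F m) (e : Cfsg.Sz F m ≃* G ⧸ R) :
    R = ⊥ := by
  by_contra hR1
  haveI := Fact.mk Nat.prime_two
  obtain ⟨z, hz, hzk, hN⟩ := exists_torus hS (k := Fintype.card F + 2 ^ (m + 1) + 1) (Or.inl rfl)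
  haveI := hz.cyclic hS
  have hodd : Odd (Nat.card (cT z)) := by
    rw [hzk, hS.card_eq]
    exact ⟨2 ^ (2 * m) + 2 ^ m, by ring⟩
  set N := Subgroup.normalizer (cT z : Set (Cfsg.Sz F m)) with hNdef
  obtain ⟨P⟩ : Nonempty (Sylow 2 N) := inferInstance
  have hP4 : Nat.card (P : Subgroup N) = 4 := by
    rw [P.card_eq_multiplicity, hN, ← hzk, Nat.factorization_mul (by norm_num) Nat.card_pos.ne',
      Finsupp.add_apply, Nat.factorization_eq_zero_of_not_dvd (n := Nat.card (cT z))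
        (fun hd => Nat.not_even_iff_odd.2 hodd (even_iff_two_dvd.2 hd)),
      show (4 : ℕ) = 2 ^ 2 by norm_num, Nat.prime_two.factorization_pow, Finsupp.single_eq_same]
  obtain ⟨g, hg⟩ := IsCyclic.exists_generator (α := cT z)
  have hgo : orderOf (g : Cfsg.Sz F m) = Nat.card (cT z) := by
    rw [Subgroup.orderOf_coe, orderOf_eq_card_of_forall_mem_zpowers hg]
  have hg1 : (g : Cfsg.Sz F m) ≠ 1 := fun e1 => by
    rw [e1, orderOf_one, hzk] at hgo
    have := Nat.two_pow_pos (m + 1); omega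
  have hgodd : Odd (orderOf (g : Cfsg.Sz F m)) := hgo ▸ hodd
  by_cases h4 : ∃ x ∈ (P : Subgroup N), orderOf x = 4
  · obtain ⟨x, -, hx⟩ := h4
    refine false_of_frobenius h h24 hR hR1 e (a := (g : Cfsg.Sz F m)) (x := (x : Cfsg.Sz F m)) (n := 4)
      (Or.inr rfl) (by rw [Subgroup.orderOf_coe, hx]) hgodd hg1 ?_ (fun h34 => absurd h34 (by norm_num))
    obtain ⟨i, hi⟩ := hg ⟨_, (Subgroup.mem_normalizer_iff.1 x.2 g).1 g.2⟩
    exact Subgroup.mem_zpowers_iff.2 ⟨i, by simpa using congrArg Subtype.val hi⟩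
  push Not at h4
  -- a four-group would invert the torus three times
  have hsq : ∀ y ∈ (P : Subgroup N), y * y = 1 := by
    intro y hy
    have hd : orderOf y ∣ 2 ^ 2 := by
      have := Subgroup.orderOf_dvd_natCard _ hy
      rwa [hP4] at this
    obtain ⟨l, hl, hlo⟩ := (Nat.dvd_prime_pow Nat.prime_two).1 hd
    rw [← sq, ← orderOf_dvd_iff_pow_eq_one, hlo]
    rcases Nat.lt_or_ge l 2 with h1 | h1
    · exact pow_dvd_pow 2 (show l ≤ 1 by omega)
    · exact absurd (by rw [hlo, show l = 2 by omega]; rfl) (h4 y hy)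
  have hinv : ∀ y ∈ (P : Subgroup N), y ≠ 1 →
      ∀ w ∈ cT z, (y : Cfsg.Sz F m) * w * y = w⁻¹ := by
    intro y hy hy1
    have hyy : (y : Cfsg.Sz F m) * y = 1 := congrArg Subtype.val (hsq y hy)
    refine CITGroups.inverts_of_fixedPointFree hyy (fun w hw => ?_) fun w hw hc => ?_
    · have := (Subgroup.mem_normalizer_iff.1 y.2 w).1 hw
      rwa [inv_eq_of_mul_eq_one_right hyy] at this
    · exact CITGroups.eq_one_of_odd_mem (hK _ (CITGroups.orderOf_two_of_mul_self hyy
        fun e1 => hy1 (Subtype.ext e1))) (Subgroup.mem_centralizer_singleton_iff.2 hc.symm)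
        (Odd.of_dvd_nat hodd (Subgroup.orderOf_dvd_natCard _ hw))
  haveI : Nontrivial (P : Subgroup N) := Finite.one_lt_card_iff_nontrivial.1 (by rw [hP4]; norm_num)
  obtain ⟨s, hs⟩ := exists_ne (1 : (P : Subgroup N))
  obtain ⟨t, ht1, hts⟩ : ∃ t : (P : Subgroup N), t ≠ 1 ∧ t ≠ s := by
    classical
    haveI := Fintype.ofFinite (P : Subgroup N)
    have h4' : Fintype.card (P : Subgroup N) = 4 := by rw [← Nat.card_eq_fintype_card, hP4]
    obtain ⟨t, -, ht⟩ := Finset.exists_mem_notMem_of_card_lt_card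
      (s := ({1, s} : Finset (P : Subgroup N))) (t := Finset.univ)
      (lt_of_le_of_lt Finset.card_le_two (by rw [Finset.card_univ, h4']; norm_num))
    simp only [Finset.mem_insert, Finset.mem_singleton, not_or] at ht
    exact ⟨t, ht⟩
  have hst : (s : N) * t ≠ 1 := fun e1 => hts (Subtype.ext (mul_left_cancel (e1.trans (hsq s s.2).symm)))
  set S : Cfsg.Sz F m := ((s : N) : Cfsg.Sz F m) with hSdef
  set T : Cfsg.Sz F m := ((t : N) : Cfsg.Sz F m) with hTdef
  set γ : Cfsg.Sz F m := (g : Cfsg.Sz F m) with hγdef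
  have h1 : S * γ * S = γ⁻¹ := hinv s s.2 (fun e1 => hs (Subtype.ext e1)) g g.2
  have h2 : T * γ * T = γ⁻¹ := hinv t t.2 (fun e1 => ht1 (Subtype.ext e1)) g g.2
  have h3 : S * T * γ * (S * T) = γ⁻¹ := hinv _ (mul_mem s.2 t.2) hst g g.2
  have hSS : S * S = 1 := congrArg Subtype.val (hsq s s.2)
  have hTT : T * T = 1 := congrArg Subtype.val (hsq t t.2)
  have hST : S * T * (S * T) = 1 := congrArg Subtype.val (hsq _ (mul_mem s.2 t.2))
  have hcomm : S * T = T * S := by
    calc S * T = S * T * (S * T) * (T⁻¹ * S⁻¹) := by group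
      _ = T * S := by rw [hST, one_mul, inv_eq_of_mul_eq_one_right hSS, inv_eq_of_mul_eq_one_right hTT]
  have hinvγ : S * γ⁻¹ * S = γ := by
    calc S * γ⁻¹ * S = S * (S * γ * S) * S := by rw [h1]
      _ = (S * S) * γ * (S * S) := by group
      _ = γ := by rw [hSS, one_mul, mul_one]
  have h3' : γ = γ⁻¹ := by
    calc γ = S * γ⁻¹ * S := hinvγ.symm
      _ = S * (T * γ * T) * S := by rw [h2]
      _ = S * T * γ * (T * S) := by group
      _ = γ⁻¹ := by rw [← hcomm]; exact h3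
  -- `g ^ 2 = 1` although `g` has odd order
  refine hg1 (orderOf_eq_one_iff.1 (Nat.eq_one_of_dvd_coprimes (Nat.coprime_two_left.2 hgodd) ?_ dvd_rfl))
  exact orderOf_dvd_of_pow_eq_one (by rw [sq]; nth_rw 2 [h3']; exact mul_inv_cancel _)

end Suzuki

end CfsgLib.FGS74.ThreeOrders
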