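import Cfsg.Agent.FGS74.ThreeOrders.CITTools

/-!
# Frobenius groups and commuting elements over a normal two-subgroup
-/

set_option autoImplicit false
set_option linter.style.haveILetI false

namespace CfsgLib.FGS74.ThreeOrders

open Subgroup
open CfsgLib.CITGroups (IsCIT)

universe u v

variable {G : Type u} [Group G] [Finite G] {R : Subgroup G} [R.Normal]

/-- A Frobenius group `⟨a⟩⟨x⟩` with `x` of order `n ∈ {3, 4}` forces a trivial normal two-subgroup. -/
theorem false_of_frobenius {K : Type v} [Group K] (h : IsCIT G)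
    (h24 : ∀ g : G, 2 ∣ orderOf g → orderOf g = 2 ∨ orderOf g = 4) (hR : IsPGroup 2 R) (hR1 : R ≠ ⊥)
    (e : K ≃* G ⧸ R) {a x : K} {n : ℕ} (hn : n = 3 ∨ n = 4) (hx : orderOf x = n)
    (ha : Odd (orderOf a)) (ha1 : a ≠ 1) (hconj : x * a * x⁻¹ ∈ zpowers a)
    (hfpf : n = 3 → (orderOf a).Prime ∧ ¬ Commute a x) : False := by
  have hax : e x ∈ normalizer (zpowers (e a) : Set (G ⧸ R)) := by
    refine mem_normalizer_fintype ?_
    intro k hk
    obtain ⟨i, rfl⟩ := mem_zpowers_iff.1 (SetLike.mem_coe.1 hk)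
    rw [← conj_zpow, ← map_inv, ← map_mul, ← map_mul]
    obtain ⟨j, hj⟩ := mem_zpowers_iff.1 hconj
    rw [← hj, map_zpow, ← zpow_mul]
    exact mem_zpowers_iff.2 ⟨_, rfl⟩
  obtain ⟨a', x', ha', hx', ha'o, hnor, hAR⟩ := exists_lift hR (a := e a) (x := e x)
    (by rw [e.orderOf_eq]; exact ha) hax
  -- elements over `e x` have order `n`
  have hord : ∀ g : G, (g : G ⧸ R) = e x → g ^ n = 1 := by
    intro g hg
    have hd : n ∣ orderOf g := by
      rw [← hx, ← e.orderOf_eq, ← hg]
      exact orderOf_map_dvd (QuotientGroup.mk' R) g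
    rcases Nat.even_or_odd (orderOf g) with hev | hod
    · rcases h24 g (even_iff_two_dvd.1 hev) with h2 | h4
      · rw [h2] at hd
        rcases hn with rfl | rfl <;> norm_num at hd
      · rw [h4] at hd
        rcases hn with rfl | rfl
        · norm_num at hd
        · rw [← h4, pow_orderOf_eq_one]
    · have hgn : g ^ n ∈ R := by
        rw [← QuotientGroup.eq_one_iff, QuotientGroup.mk_pow, hg, ← map_pow, ← hx, pow_orderOf_eq_one,
          map_one]
      exact CITGroups.eq_one_of_odd_mem hR hgn (Odd.of_dvd_nat hod (orderOf_pow_dvd n))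
  have ha'1 : a' ≠ 1 := fun e1 => ha1 (e.injective (by rw [map_one, ← ha', e1]; rfl))
  have hn0 : 0 < n := by rcases hn with rfl | rfl <;> norm_num
  have hfix : ∀ i, 0 < i → i < n → ∀ k ∈ zpowers a', Commute k (x' ^ i) → k = 1 := by
    intro i hi hin k hk hc
    rcases hn with rfl | rfl
    · obtain ⟨hpr, hnc⟩ := hfpf rfl
      by_contra hk1
      haveI := Fact.mk hpr
      obtain ⟨j, rfl⟩ := mem_zpowers_iff.1 hk
      have hne1 : (e a) ^ j ≠ 1 := by
        intro e1
        refine hk1 ?_
        have : a' ^ j ∈ zpowers a' ⊓ R := mem_inf.2 ⟨zpow_mem (mem_zpowers _) _,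
          (QuotientGroup.eq_one_iff _).1 (by rw [QuotientGroup.mk_zpow, ha', e1])⟩
        rwa [hAR, mem_bot] at this
      have hc' : Commute ((e a) ^ j) ((e x) ^ i) := by
        have := hc.map (QuotientGroup.mk' R)
        simpa only [map_zpow, map_pow, QuotientGroup.mk'_apply, ha', hx'] using this
      have hc'' : Commute (a ^ j) (x ^ i) := by
        have := hc'.map e.symm
        simpa only [map_zpow, map_pow, MulEquiv.symm_apply_apply] using this
      have hgen : a ∈ zpowers (a ^ j) := by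
        have h1 : (⟨a, mem_zpowers a⟩ : zpowers a) ∈ zpowers (⟨a ^ j, zpow_mem (mem_zpowers a) j⟩ : zpowers a) :=
          mem_zpowers_of_prime_card (Nat.card_zpowers a)
            (fun e1 => hne1 (by rw [← map_zpow, show a ^ j = 1 from congrArg Subtype.val e1, map_one]))
        obtain ⟨t, ht⟩ := mem_zpowers_iff.1 h1
        exact mem_zpowers_iff.2 ⟨t, congrArg Subtype.val ht⟩
      obtain ⟨l, hl⟩ := mem_zpowers_iff.1 hgen
      have hxi : x ∈ zpowers (x ^ i) := by
        obtain ⟨t, ht⟩ := exists_pow_eq_self_of_coprime (x := x) (n := i)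
          (by rw [hx]; exact (Nat.prime_three.coprime_iff_not_dvd.2 (fun hd => by
            have := Nat.le_of_dvd hi hd; omega)).symm)
        exact mem_zpowers_iff.2 ⟨t, by rw [zpow_natCast, ht]⟩
      obtain ⟨t, ht⟩ := mem_zpowers_iff.1 hxi
      exact hnc (hl ▸ ht ▸ (hc''.zpow_left l).zpow_right t)
    · -- a two-element commutes with nothing of odd order
      have hx'4 : orderOf x' ∣ 4 := orderOf_dvd_of_pow_eq_one (hord x' hx')
      obtain ⟨l, -, hl⟩ := (Nat.dvd_prime_pow Nat.prime_two (m := 2)).1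
        ((orderOf_pow_dvd i).trans (by simpa using hx'4) : orderOf (x' ^ i) ∣ 2 ^ 2)
      refine h.eq_one_of_commute hl ?_ ?_ hc
      · intro e1
        have : (e x) ^ i = 1 := by rw [← hx', ← QuotientGroup.mk_pow, e1, QuotientGroup.mk_one]
        rw [← orderOf_dvd_iff_pow_eq_one, e.orderOf_eq, hx] at this
        have := Nat.le_of_dvd hi this
        omega
      · exact Odd.of_dvd_nat ha'o (orderOf_dvd_of_mem_zpowers hk)
  obtain ⟨w, hw, hne⟩ := exists_long_element h hR hR1 hn0 (hord x' hx') ha'o hnor hfix ha'1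
  exact hne (hord _ (by rw [QuotientGroup.mk_mul, (QuotientGroup.eq_one_iff w).2 hw, one_mul, hx']))

/-- Two independent commuting elements of order three force a trivial normal two-subgroup. -/
theorem false_of_commuting_three {K : Type v} [Group K] (h : IsCIT G) (hR : IsPGroup 2 R) (hR1 : R ≠ ⊥)
    (e : K ≃* G ⧸ R) {a b : K} (ha : a ^ 3 = 1) (hb : b ^ 3 = 1) (hab : Commute a b) (ha1 : a ≠ 1)
    (hne : ∀ i : ℕ, b * a ^ i ≠ 1) : False := by
  haveI := Fact.mk Nat.prime_three
  haveI := Fact.mk Nat.prime_two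
  set f := QuotientGroup.mk' R with hf
  set H : Subgroup (G ⧸ R) := closure {e a, e b} with hH
  have hH3 : IsPGroup 3 H := by
    have hc : ∀ x ∈ ({e a, e b} : Set (G ⧸ R)), ∀ y ∈ ({e a, e b} : Set (G ⧸ R)), x * y = y * x := by
      simp only [Set.mem_insert_iff, Set.mem_singleton_iff]
      rintro x (rfl | rfl) y (rfl | rfl)
      · rfl
      · rw [← map_mul, hab.eq, map_mul]
      · rw [← map_mul, ← hab.eq, map_mul]
      · rfl
    haveI := Subgroup.isMulCommutative_closure hc
    intro y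
    refine ⟨1, Subtype.ext ?_⟩
    have key : ∀ z ∈ H, z ^ 3 = 1 ∧ z ∈ H := by
      intro z hz
      refine closure_induction (p := fun z _ => z ^ 3 = 1 ∧ z ∈ H) ?_ ⟨one_pow _, one_mem _⟩ ?_ ?_ hz
      · simp only [Set.mem_insert_iff, Set.mem_singleton_iff]
        rintro z (rfl | rfl)
        · exact ⟨by rw [← map_pow, ha, map_one], subset_closure (by simp)⟩
        · exact ⟨by rw [← map_pow, hb, map_one], subset_closure (by simp)⟩
      · rintro z w - - ⟨hz3, hz'⟩ ⟨hw3, hw'⟩
        refine ⟨?_, mul_mem hz' hw'⟩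
        have : Commute z w :=
          congrArg Subtype.val (IsMulCommutative.is_comm.comm (⟨z, hz'⟩ : H) ⟨w, hw'⟩)
        rw [this.mul_pow, hz3, hw3, one_mul]
      · rintro z - ⟨hz3, hz'⟩
        exact ⟨by rw [inv_pow, hz3, inv_one], inv_mem hz'⟩
    rw [pow_one]
    exact (key y y.2).1
  -- lift through a Sylow three-subgroup
  obtain ⟨T, hT⟩ := hH3.exists_le_sylow
  obtain ⟨S⟩ : Nonempty (Sylow 3 G) := inferInstance
  have hsurj := QuotientGroup.mk'_surjective R
  obtain ⟨g, hg⟩ := MulAction.exists_smul_eq (G ⧸ R) (S.mapSurjective hsurj) T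
  obtain ⟨g, rfl⟩ := hsurj g
  set S' : Subgroup G := (S : Subgroup G).map (MulAut.conj g).toMonoidHom with hS'
  have hS'3 : IsPGroup 3 S' := S.2.map _
  have hle : H ≤ S'.map f := by
    refine hT.trans (le_of_eq ?_)
    rw [← hg, Sylow.coe_subgroup_smul, Sylow.coe_mapSurjective, hS', map_map, Subgroup.pointwise_smul_def]
    erw [map_map]
    congr 1
  obtain ⟨a', ha'S, ha'⟩ := hle (subset_closure (by simp : e a ∈ ({e a, e b} : Set (G ⧸ R))))
  obtain ⟨b', hb'S, hb'⟩ := hle (subset_closure (by simp : e b ∈ ({e a, e b} : Set (G ⧸ R))))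
  have hinj : ∀ z ∈ S', f z = 1 → z = 1 := by
    intro z hz h1
    obtain ⟨k, hk⟩ := hS'3 ⟨z, hz⟩
    refine CITGroups.eq_one_of_odd_mem hR ((QuotientGroup.eq_one_iff z).1 h1) ?_
    exact Odd.of_dvd_nat (Odd.pow (by decide)) (orderOf_dvd_of_pow_eq_one (congrArg Subtype.val hk :))
  have hcomm : Commute a' b' := by
    refine commutatorElement_eq_one_iff_commute.1 (hinj _ ?_ ?_)
    · exact mul_mem (mul_mem (mul_mem ha'S hb'S) (inv_mem ha'S)) (inv_mem hb'S)
    · rw [map_commutatorElement, ha', hb', commutatorElement_eq_one_iff_commute]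
      exact hab.map e
  refine false_of_two_commuting h hR hR1 Nat.prime_three (by norm_num) (a := a') (b := b')
    (hinj _ (pow_mem ha'S _) (by rw [map_pow, ha', ← map_pow, ha, map_one]))
    (hinj _ (pow_mem hb'S _) (by rw [map_pow, hb', ← map_pow, hb, map_one])) hcomm ?_ ?_
  · intro i hi
    refine hne i (e.injective ?_)
    have := congrArg f hi
    rwa [map_mul, map_pow, ha', hb', map_one, ← map_pow, ← map_mul, ← map_one e] at this
  · intro h1
    exact ha1 (e.injective (by rw [map_one, ← ha', h1, map_one]))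

end CfsgLib.FGS74.ThreeOrders
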