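import Mathlib.GroupTheory.OrderOfElement
import Mathlib.GroupTheory.Coset.Card
import Mathlib.GroupTheory.Subgroup.Centralizer
import Mathlib.Algebra.BigOperators.Group.Finset.Basic
import Mathlib.Tactic.Group

/-!
# Norms in Frobenius actions

If the cyclic group `⟨x⟩` acts without fixed points on `K` and `K` fixes no nontrivial element of the
abelian group `V`, then some element of `V` has nontrivial norm under `⟨x⟩`.
-/

set_option autoImplicit false
set_option linter.style.haveILetI false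

namespace CfsgLib.FGS74.ThreeOrders

open Subgroup Finset

universe u

variable {G : Type u} [Group G]

theorem mul_pow_eq (w x : G) : ∀ n : ℕ,
    (w * x) ^ n = ((List.range n).map fun i => x ^ i * w * (x ^ i)⁻¹).prod * x ^ n := by
  intro n
  induction n with
  | zero => simp
  | succ n ih =>
    rw [pow_succ, ih, List.range_succ, List.map_append, List.prod_append, List.map_singleton,
      List.prod_singleton, pow_succ]
    group

variable {V K : Subgroup G}

theorem conj_mem_of_le_normalizer {H : Subgroup G} {g h : G} (hg : g ∈ normalizer (H : Set G))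
    (hh : h ∈ H) : g * h * g⁻¹ ∈ H :=
  (mem_normalizer_iff.1 hg h).1 hh

theorem exists_pow_mul_ne [Finite G] {x : G} {n : ℕ} (hn : 0 < n) (hV : ∀ a ∈ V, ∀ b ∈ V, Commute a b)
    (hKV : K ≤ normalizer (V : Set G)) (hxV : x ∈ normalizer (V : Set G))
    (hxK : x ∈ normalizer (K : Set G))
    (hfix : ∀ i, 0 < i → i < n → ∀ k ∈ K, Commute k (x ^ i) → k = 1)
    (hcK : ∀ v ∈ V, (∀ k ∈ K, Commute k v) → v = 1)
    (hcop : (Nat.card K).Coprime (Nat.card V)) (hne : V ≠ ⊥) :
    ∃ w ∈ V, (w * x) ^ n ≠ x ^ n := by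
  classical
  haveI := Fintype.ofFinite K
  letI : CommGroup V := { (inferInstance : Group V) with mul_comm := fun a b => Subtype.ext (hV a a.2 b b.2).eq }
  by_contra! hall
  obtain ⟨⟨v, hvV⟩, hv0⟩ := ne_bot_iff_exists_ne_one.1 hne
  have hv1 : v ≠ 1 := fun e => hv0 (Subtype.ext e)
  let c : G → V → V := fun g w =>
    if hg : g ∈ normalizer (V : Set G) then ⟨g * w * g⁻¹, conj_mem_of_le_normalizer hg w.2⟩ else 1
  have hc : ∀ g ∈ normalizer (V : Set G), ∀ w : V, (c g w : G) = g * w * g⁻¹ := fun g hg w => by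
    simp only [c, dif_pos hg]
  have hxi : ∀ i : ℕ, x ^ i ∈ normalizer (V : Set G) := fun i => pow_mem hxV i
  have hk : ∀ k : K, (k : G) ∈ normalizer (V : Set G) := fun k => hKV k.2
  -- the norms vanish
  have hN : ∀ w : V, ∏ i ∈ range n, c (x ^ i) w = 1 := by
    intro w
    apply Subtype.ext
    have h1 := hall w w.2
    rw [mul_pow_eq, mul_eq_right] at h1
    rw [OneMemClass.coe_one, ← h1, prod_eq_multiset_prod, range_val, Multiset.range, Multiset.map_coe,
      Multiset.prod_coe, SubmonoidClass.coe_list_prod, List.map_map]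
    exact congrArg List.prod (List.map_congr_left fun i _ => hc _ (hxi i) w)
  -- sums over `K` vanish
  have hK : ∀ w : V, ∏ k : K, c k w = 1 := by
    intro w
    refine Subtype.ext (hcK _ (∏ k : K, c k w).2 fun k hkm => ?_)
    set P := ∏ k : K, c k w with hP
    have hk' := hk ⟨k, hkm⟩
    let φ : V →* V :=
      { toFun := c k
        map_one' := Subtype.ext (by rw [hc k hk']; simp)
        map_mul' := fun a b => Subtype.ext (by
          rw [Subgroup.coe_mul, hc k hk', hc k hk', hc k hk', Subgroup.coe_mul]; group) }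
    have h2 : φ P = P := by
      rw [hP, map_prod]
      refine Fintype.prod_equiv (Equiv.mulLeft ⟨k, hkm⟩) _ _ fun j => Subtype.ext ?_
      show (c k (c j w) : G) = (c (k * j) w : G)
      rw [hc k hk', hc j (hk j), hc (k * j) (mul_mem hk' (hk j))]
      group
    have h3 := congrArg Subtype.val h2
    rw [show (φ P : G) = k * P * k⁻¹ from hc k hk' P] at h3
    exact mul_inv_eq_iff_eq_mul.1 h3
  -- the commutator map is injective
  have hbij : ∀ i, 0 < i → i < n → ∀ w : V,
      ∏ k : K, c ((k : G) * x ^ i * (k : G)⁻¹ * (x ^ i)⁻¹) w = 1 := by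
    intro i hi hin w
    let f : K → K := fun k => ⟨(k : G) * x ^ i * (k : G)⁻¹ * (x ^ i)⁻¹, by
      rw [show (k : G) * x ^ i * (k : G)⁻¹ * (x ^ i)⁻¹ = k * (x ^ i * (k : G)⁻¹ * (x ^ i)⁻¹) by group]
      exact mul_mem k.2 (conj_mem_of_le_normalizer (pow_mem hxK i) (inv_mem k.2))⟩
    have hinj : Function.Injective f := by
      intro a b hab
      have h1 : (a : G) * x ^ i * (a : G)⁻¹ = b * x ^ i * (b : G)⁻¹ :=
        mul_right_cancel (congrArg Subtype.val hab)
      have h2 : (b : G)⁻¹ * a = 1 := hfix i hi hin _ (mul_mem (inv_mem b.2) a.2) (by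
        show (b : G)⁻¹ * a * x ^ i = x ^ i * ((b : G)⁻¹ * a)
        calc (b : G)⁻¹ * a * x ^ i = (b : G)⁻¹ * (a * x ^ i * (a : G)⁻¹) * a := by group
          _ = x ^ i * ((b : G)⁻¹ * a) := by rw [h1]; group)
      exact Subtype.ext (inv_mul_eq_one.1 h2).symm
    exact (Fintype.prod_bijective f (Finite.injective_iff_bijective.1 hinj) _ (fun k : K => c k w)
      fun k => rfl).trans (hK w)
  -- sum over `k` and `i`
  let a : V := ⟨v, hvV⟩
  have h4 : ∏ i ∈ range n, ∏ k : K, c k (c (x ^ i) (c (k : G)⁻¹ a)) = 1 := by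
    rw [prod_comm]
    refine prod_eq_one fun k _ => ?_
    let φ : V →* V :=
      { toFun := c k
        map_one' := Subtype.ext (by rw [hc k (hk k)]; simp)
        map_mul' := fun a b => Subtype.ext (by
          rw [Subgroup.coe_mul, hc k (hk k), hc k (hk k), hc k (hk k), Subgroup.coe_mul]; group) }
    show ∏ i ∈ range n, φ (c (x ^ i) (c (k : G)⁻¹ a)) = 1
    rw [← map_prod, hN, map_one]
  have h5 : ∀ i ∈ range n, i ≠ 0 → ∏ k : K, c k (c (x ^ i) (c (k : G)⁻¹ a)) = 1 := by
    intro i hi hi0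
    refine (prod_congr rfl fun k _ => ?_).trans
      (hbij i (Nat.pos_of_ne_zero hi0) (mem_range.1 hi) (c (x ^ i) a))
    have hkk := hk k
    have hki := inv_mem hkk
    apply Subtype.ext
    rw [hc _ hkk, hc _ (hxi i), hc _ hki,
      hc _ (mul_mem (mul_mem (mul_mem hkk (hxi i)) hki) (inv_mem (hxi i))), hc _ (hxi i)]
    group
  rw [prod_eq_single 0 h5 (fun h0 => absurd (mem_range.2 hn) h0)] at h4
  have h6 : ∀ k : K, c k (c (x ^ 0) (c (k : G)⁻¹ a)) = a := fun k => Subtype.ext (by
    rw [hc _ (hk k), hc _ (hxi 0), hc _ (inv_mem (hk k)), pow_zero]; group)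
  simp only [h6, prod_const, card_univ, ← Nat.card_eq_fintype_card] at h4
  refine hv1 (congrArg Subtype.val (?_ : a = 1))
  have h7 : orderOf a ∣ Nat.gcd (Nat.card K) (Nat.card V) :=
    Nat.dvd_gcd (orderOf_dvd_of_pow_eq_one h4) (orderOf_dvd_natCard a)
  rw [hcop.gcd_eq_one, Nat.dvd_one, orderOf_eq_one_iff] at h7
  exact h7

end CfsgLib.FGS74.ThreeOrders
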